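import Mathlib
import Cfsg.Agent.H531.FMove_m3
import Cfsg.Agent.H254.CopOrth
import Cfsg.Agent.H521.OddFixOrth
import Cfsg.Agent.UGT.U2.FOne.OrthJ
import Cfsg.Agent.AutOrth.Main
import Cfsg.Agent.Prune
set_option linter.all false

section
prune_inst 0x7f00000000000000000000000000000000000000000000000000000000000000000000000000000000000000000000000000000000000000000000000000000000000000000000000000000000000000003fffffffffffffffffffffffffffbeffbdffffffff

-- part: H522/RealOrth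
section
set_option linter.all false
open scoped Cfsg.Agent.FastGrp

/-!
# Coprime automorphisms of the orthogonal groups move a real cyclic subgroup (helper522, for S4161)

`realMove_odd`, `realMove_plus`, `realMove_minus`.
-/

set_option autoImplicit false
set_option linter.unusedSectionVars false

namespace Cfsg.Agent.H522.RealOrth

open QuadraticMap Cfsg Cfsg.Agent.LieClassical.OrthCore Cfsg.Agent.LieClassical.OrthTrans
open Cfsg.Agent.ClassicalGeometry.OrthSemi Cfsg.Agent.ClassicalGeometry.OrthSemiCount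
open Cfsg.Agent.ClassicalGeometry.OrthSemiForms Cfsg.Agent.LieClassical.OrthSimple
  Cfsg.Agent.LieClassical.OrthForms
open Cfsg.Agent.H254 Cfsg.Agent.H254.Orth Cfsg.Agent.H531 Cfsg.Agent.Schreier.Basic
open Cfsg.Agent.ClassicalGeometry.OrthAut1 (P)
open Cfsg.Agent.UGT.U2.FOne.Orth (Four)
open Matrix (SpecialLinearGroup)

section gen

variable {F V : Type*} [Field F] [AddCommGroup V] [Module F V] {Q : QuadraticForm F V}
variable {e₁ f₁ e₂ f₂ : V}

/-- `M` is a `σ`-semilinear isometry fixing the four vectors. -/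
structure Fx (Q : QuadraticForm F V) (e₁ f₁ e₂ f₂ : V) (σ : F ≃+* F) (M : Equiv.Perm V) : Prop where
  ss : IsSS Q σ 1 M
  h1 : M e₁ = e₁
  h2 : M f₁ = f₁
  h3 : M e₂ = e₂
  h4 : M f₂ = f₂

theorem Fx.one : Fx Q e₁ f₁ e₂ f₂ 1 1 :=
  ⟨⟨one_ne_zero, fun _ _ => rfl, fun _ _ => rfl, fun v => by rw [one_mul]; rfl⟩, rfl, rfl, rfl, rfl⟩

theorem Fx.mul {σ τ : F ≃+* F} {M N : Equiv.Perm V} (hM : Fx Q e₁ f₁ e₂ f₂ σ M) (hN : Fx Q e₁ f₁ e₂ f₂ τ N) :
    Fx Q e₁ f₁ e₂ f₂ (σ * τ) (M * N) := by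
  refine ⟨?_, ?_, ?_, ?_, ?_⟩
  · have := hM.ss.mul hN.ss
    rwa [map_one, one_mul] at this
  · show M (N e₁) = e₁
    rw [hN.h1, hM.h1]
  · show M (N f₁) = f₁
    rw [hN.h2, hM.h2]
  · show M (N e₂) = e₂
    rw [hN.h3, hM.h3]
  · show M (N f₂) = f₂
    rw [hN.h4, hM.h4]

theorem Fx.inv {σ : F ≃+* F} {M : Equiv.Perm V} (hM : Fx Q e₁ f₁ e₂ f₂ σ M) : Fx Q e₁ f₁ e₂ f₂ σ⁻¹ M⁻¹ := by
  refine ⟨?_, ?_, ?_, ?_, ?_⟩
  · have := hM.ss.inv
    rwa [inv_one, map_one] at this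
  · apply M.injective
    rw [apply_inv, hM.h1]
  · apply M.injective
    rw [apply_inv, hM.h2]
  · apply M.injective
    rw [apply_inv, hM.h3]
  · apply M.injective
    rw [apply_inv, hM.h4]

theorem Fx.pow {σ : F ≃+* F} {M : Equiv.Perm V} (hM : Fx Q e₁ f₁ e₂ f₂ σ M) (k : ℕ) :
    Fx Q e₁ f₁ e₂ f₂ (σ ^ k) (M ^ k) := by
  induction k with
  | zero => rw [pow_zero, pow_zero]; exact Fx.one
  | succ k ih => rw [pow_succ, pow_succ]; exact ih.mul hM

theorem Fx.zpow {σ : F ≃+* F} {M : Equiv.Perm V} (hM : Fx Q e₁ f₁ e₂ f₂ σ M) (k : ℤ) :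
    Fx Q e₁ f₁ e₂ f₂ (σ ^ k) (M ^ k) := by
  rcases k with k | k
  · rw [Int.ofNat_eq_natCast, zpow_natCast, zpow_natCast]
    exact hM.pow k
  · rw [zpow_negSucc, zpow_negSucc]
    exact (hM.pow (k + 1)).inv

/-- the semisimilitude of `Fx` -/
def Fx.gam {σ : F ≃+* F} {M : Equiv.Perm V} (hM : Fx Q e₁ f₁ e₂ f₂ σ M) : Gam Q := ⟨M, σ, 1, hM.ss⟩

theorem phi_map (h : Four Q e₁ f₁ e₂ f₂) {σ : F ≃+* F} {M : Equiv.Perm V} (hM : Fx Q e₁ f₁ e₂ f₂ σ M)
    (A : SpecialLinearGroup (Fin 2) F) (v : V) :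
    M (h.phi A v) = h.phi (SpecialLinearGroup.map (σ : F →+* F) A) (M v) := by
  have p1 : polar Q e₁ (M v) = σ (polar Q e₁ v) := by
    have := hM.ss.polar e₁ v
    rwa [hM.h1, one_mul] at this
  have p2 : polar Q f₁ (M v) = σ (polar Q f₁ v) := by
    have := hM.ss.polar f₁ v
    rwa [hM.h2, one_mul] at this
  have p3 : polar Q e₂ (M v) = σ (polar Q e₂ v) := by
    have := hM.ss.polar e₂ v
    rwa [hM.h3, one_mul] at this
  have p4 : polar Q f₂ (M v) = σ (polar Q f₂ v) := by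
    have := hM.ss.polar f₂ v
    rwa [hM.h4, one_mul] at this
  have q : ∀ i j, (SpecialLinearGroup.map (σ : F →+* F) A).1 i j = σ (A.1 i j) := fun i j => rfl
  unfold Four.phi
  rw [hM.ss.add, hM.ss.add, hM.ss.add, hM.ss.add, hM.ss.smul, hM.ss.smul, hM.ss.smul, hM.ss.smul, hM.h1, hM.h2, hM.h3,
    hM.h4, p1, p2, p3, p4, q, q, q, q]
  simp only [_root_.RingEquiv.map_add, _root_.RingEquiv.map_sub, _root_.RingEquiv.map_mul, _root_.RingEquiv.map_neg, _root_.RingEquiv.map_one]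

theorem psi_rhoP (h : Four Q e₁ f₁ e₂ f₂) {σ : F ≃+* F} {M : Equiv.Perm V} (hM : Fx Q e₁ f₁ e₂ f₂ σ M)
    (A : SpecialLinearGroup (Fin 2) F) :
    Psi Q hM.gam (h.rhoP A) = h.rhoP (SpecialLinearGroup.map (σ : F →+* F) A) := by
  ((conv => enter [@2, @6]; rw [h.rhoP_apply]); (conv => enter [@3]; rw [h.rhoP_apply]); rewrite [Psi_mk])
  refine congrArg _ ?_
  apply Subtype.ext
  ext v
  obtain ⟨v, rfl⟩ := M.surjective v
  have h1 : (conjE Q hM.gam (h.rhoE A) : V ≃ₗ[F] V) (M v) = M ((h.rhoE A : V ≃ₗ[F] V) v) := by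
    rw [coe_conjE]
    exact conjLin_apply' hM.gam (h.rhoE A).1 v
  rw [h1, h.coe_rhoE, h.coe_rhoE, h.rho_apply, h.rho_apply, phi_map h hM]

end gen

section fam

variable {F : Type*} [Field F] [Finite F] {ι : Type} [Fintype ι] [DecidableEq ι] {Q : QuadraticForm F (ι → F)}
  {e₁ f₁ e₂ f₂ : ι → F}

theorem ind_zpow (hG : Good Q) {σ : F ≃+* F} {M : Equiv.Perm (ι → F)} (hM : Fx Q e₁ f₁ e₂ f₂ σ M) (k : ℤ) :
    ind hG hM.gam ^ k = ind hG (hM.zpow k).gam := by
  have h1 : (hM.zpow k).gam = hM.gam ^ k := by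
    apply Subtype.ext
    rw [Subgroup.coe_zpow]
    rfl
  rw [h1]
  unfold ind
  (rewrite [map_zpow]; (conv => enter [@3]; rw [map_zpow]))

/-- The homomorphism from `SL₂(F)`. -/
noncomputable def jj (hG : Good Q) (h : Four Q e₁ f₁ e₂ f₂) : SpecialLinearGroup (Fin 2) F →* POmega F ⇑Q :=
  (pomegaEquiv hG).symm.toMonoidHom.comp h.rhoP

theorem jj_injective (hG : Good Q) (h : Four Q e₁ f₁ e₂ f₂) : Function.Injective (jj hG h) :=
  (pomegaEquiv hG).symm.injective.comp (h.rhoP_injective hG)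

theorem ind_jj (hG : Good Q) (h : Four Q e₁ f₁ e₂ f₂) {σ : F ≃+* F} {M : Equiv.Perm (ι → F)}
    (hM : Fx Q e₁ f₁ e₂ f₂ σ M) (A : SpecialLinearGroup (Fin 2) F) :
    ind hG hM.gam (jj hG h A) = jj hG h (SpecialLinearGroup.map (σ : F →+* F) A) := by
  have h1 : ind hG hM.gam (jj hG h A) =
      (pomegaEquiv hG).symm (Psi Q hM.gam (pomegaEquiv hG ((pomegaEquiv hG).symm (h.rhoP A)))) := rfl
  rw [h1, MulEquiv.apply_symm_apply, psi_rhoP]
  rfl

/-- **The criterion.** -/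
theorem realMove (hG : Good Q) (h : Four Q e₁ f₁ e₂ f₂) {σ : F ≃+* F} {M : Equiv.Perm (ι → F)}
    (hM : Fx Q e₁ f₁ e₂ f₂ σ M) (h2 : 2 ∣ Nat.card (POmega F ⇑Q)) (hco : CopIn (POmega F ⇑Q) (ind hG hM.gam)) :
    RealMove (POmega F ⇑Q) := by
  refine RealMove.of_copIn' hco ?_
  intro p k hp hpK hpow hne
  rw [ind_zpow hG hM k] at hpow hne ⊢
  have hMk := hM.zpow k
  set τ : F ≃+* F := σ ^ k with hτ
  (have h_ob := MonoidHom.map_cyclic (Units.map (τ : F →* F))
   revert h_ob; rintro (⟨m, hm⟩))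
  obtain ⟨u, hu⟩ := IsCyclic.exists_generator (α := Fˣ)
  have h3 : ind hG hMk.gam (jj hG h (diagSL F u)) = jj hG h (diagSL F u) ^ m := by
    rw [ind_jj, ← map_zpow, ← map_zpow, map_diagSL, hm]
  refine ⟨jj hG h (diagSL F u), jj hG h (weylSL F), ?_, ?_, ?_⟩
  · rw [h3]
    exact Subgroup.zpow_mem _ (Subgroup.mem_zpowers _) _
  · intro h4
    rw [ind_jj, map_diagSL] at h4
    have h5 := jj_injective hG h h4
    have h6 : τ (u : F) = u := by
      have := congrFun (congrFun (congrArg Subtype.val h5) 0) 0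
      exact this
    -- `τ = 1`
    have h7 : τ = 1 := by
      ext x
      rcases eq_or_ne x 0 with hx | hx
      · rw [hx, map_zero, map_zero]
      · obtain ⟨j, hj⟩ := Subgroup.mem_zpowers_iff.1 (hu (Units.mk0 x hx))
        have h8 : Units.map (τ : F →* F) u = u := Units.ext h6
        have h9 : Units.map (τ : F →* F) (Units.mk0 x hx) = Units.mk0 x hx := by
          rw [← hj, map_zpow, h8]
        exact congrArg Units.val h9
    have h10 : Cfsg.Agent.H208.ConjSS.Lin hMk.gam := ⟨1, by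
      have := hMk.ss
      rw [h7] at this
      exact this⟩
    obtain ⟨g, hg⟩ := Cfsg.Agent.H521.OddFixOrth.psi_pow_four_inner hG h10
    have h11 : ind hG hMk.gam ^ 4 = MulAut.conj ((pomegaEquiv hG).symm g) := by
      unfold ind
      ((conv => enter [@2]; rw [← map_pow]); (conv => enter [@2, @6]; rw [hg]))
      ext x
      show (pomegaEquiv hG).symm (MulAut.conj g (pomegaEquiv hG x)) = _
      ((conv => enter [@2, @6]; rw [MulAut.conj_apply]); (conv => enter [@3]; rw [MulAut.conj_apply]); (conv => enter [@2]; rw [map_mul]); (conv => enter [@2, @5]; rw [map_mul]); (conv => enter [@2, @6]; rw [map_inv]); (conv => enter [@2, @5, @6]; rw [MulEquiv.symm_apply_apply]))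
    have hpf : Fact p.Prime := ⟨hp⟩
    have ho : orderOf (ind hG hMk.gam) = p := orderOf_eq_prime hpow hne
    have hp2 : p ≠ 2 := by
      rintro rfl
      exact hpK h2
    have h12 : orderOf (ind hG hMk.gam ^ 4) = p := by
      rw [Nat.Coprime.orderOf_pow, ho]
      rw [ho]
      exact (Nat.Prime.coprime_iff_not_dvd hp).2 fun h => hp2
        ((Nat.prime_dvd_prime_iff_eq hp Nat.prime_two).1 (hp.dvd_of_dvd_pow (show p ∣ 2 ^ 2 from h)))
    rw [h11] at h12
    exact hpK (h12 ▸ (orderOf_map_dvd _ _).trans (orderOf_dvd_natCard _))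
  · rw [← map_inv, ← map_inv, ← map_mul, ← map_mul, weylSL_conj]

end fam

section ex

variable {F : Type*} [Field F]

/-- Two orthogonal hyperbolic pairs from an embedding of the hyperbolic part. -/
theorem four_of_emb {V : Type*} [AddCommGroup V] [Module F V] {Q : QuadraticForm F V} {m : ℕ} (hm : 2 ≤ m)
    (j : (Fin m ⊕ Fin m → F) →ₗ[F] V) (hj : ∀ x, Q (j x) = plusForm m F x) :
    ∃ i0 i1 : Fin m, Four Q (j (Pi.single (.inl i0) 1)) (j (Pi.single (.inr i0) 1)) (j (Pi.single (.inl i1) 1))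
      (j (Pi.single (.inr i1) 1)) := by
  have hpol : ∀ x y, polar Q (j x) (j y) = polar (plusForm m F) x y := by
    intro x y
    simp only [polar, ← map_add, hj]
  let i0 : Fin m := ⟨0, by omega⟩
  let i1 : Fin m := ⟨1, by omega⟩
  have h01 : i0 ≠ i1 := by simp [i0, i1]
  have hl : ∀ i : Fin m, plusForm m F (Pi.single (.inl i) 1) = 0 := by
    intro i
    rw [coe_plusForm, quadFormPlus_apply]
    exact Finset.sum_eq_zero fun j _ => by simp
  have hr : ∀ i : Fin m, plusForm m F (Pi.single (.inr i) 1) = 0 := by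
    intro i
    rw [coe_plusForm, quadFormPlus_apply]
    exact Finset.sum_eq_zero fun j _ => by simp
  refine ⟨i0, i1, ⟨by rw [hj, hl], by rw [hj, hr], ?_⟩, ⟨by rw [hj, hl], by rw [hj, hr], ?_⟩, ?_, ?_, ?_, ?_⟩ <;>
  · rw [hpol, polar_plusForm]
    simp [Pi.single_apply, h01, h01.symm]

/-- A semisimilitude with given values. -/
theorem exists_isSS' {V : Type*} [AddCommGroup V] [Module F V] [Finite V]
    {Q : QuadraticForm F V} (hQ : Nondeg Q) {σ : F ≃+* F} {c : F} (hc : c ≠ 0) (f : V → V)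
    (hadd : ∀ u v, f (u + v) = f u + f v) (hsmul : ∀ (a : F) v, f (a • v) = σ a • f v)
    (hform : ∀ v, Q (f v) = c * σ (Q v)) : ∃ M : Equiv.Perm V, IsSS Q σ c M ∧ ∀ v, M v = f v := by
  have hpol : ∀ x y, polar Q (f x) (f y) = c * σ (polar Q x y) := by
    intro x y
    simp only [QuadraticMap.polar]
    rw [← hadd, hform, hform, hform, map_sub, map_sub]
    ring
  have h0 : ∀ v, f v = 0 → v = 0 := by
    intro v hv
    apply hQ
    intro y
    have h1 := hpol v y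
    rw [hv, polar_zero_left] at h1
    rcases mul_eq_zero.1 h1.symm with h2 | h2
    · exact absurd h2 hc
    · exact (map_eq_zero σ).1 h2
  have hinj : Function.Injective f := by
    intro u v h
    have h1 : f (u - v) + f v = f u := by rw [← hadd, sub_add_cancel]
    rw [h] at h1
    have h2 : f (u - v) = 0 := by
      have : f (u - v) + f v = 0 + f v := by rw [h1, zero_add]
      exact add_right_cancel this
    exact sub_eq_zero.1 (h0 _ h2)
  exact ⟨Equiv.ofBijective f (Finite.injective_iff_bijective.1 hinj), ⟨hc, hadd, hsmul, hform⟩, fun v => rfl⟩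

/-- coordinatewise action on a vector of the standard basis -/
theorem map_single {κ : Type} [DecidableEq κ] (σ : F ≃+* F) (i : κ) :
    (fun k => σ ((Pi.single i (1 : F) : κ → F) k)) = Pi.single i 1 := by
  funext k
  by_cases hk : k = i
  · subst hk; simp
  · simp [Pi.single_eq_of_ne hk]

theorem plus_fx [Finite F] {m : ℕ} (hm : 2 ≤ m) (σ : F ≃+* F) : ∃ (M : Equiv.Perm (Fin m ⊕ Fin m → F))
    (e₁ f₁ e₂ f₂ : Fin m ⊕ Fin m → F), Four (plusForm m F) e₁ f₁ e₂ f₂ ∧ Fx (plusForm m F) e₁ f₁ e₂ f₂ σ M := by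
  obtain ⟨M, hM, hMv⟩ := exists_isSS' (nondeg_plusForm m F) (σ := σ) one_ne_zero (fun v i => σ (v i))
    (fun u v => funext fun i => _root_.RingEquiv.map_add σ _ _) (fun a v => funext fun i => _root_.RingEquiv.map_mul σ _ _) (fun v => by
      rw [coe_plusForm, quadFormPlus_apply, quadFormPlus_apply, one_mul, map_sum]
      simp only [map_mul])
  obtain ⟨i0, i1, h4⟩ := four_of_emb (Q := plusForm m F) hm LinearMap.id fun _ => rfl
  refine ⟨M, _, _, _, _, h4, hM, ?_, ?_, ?_, ?_⟩ <;>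
  · rw [hMv]
    exact map_single σ _

theorem odd_fx [Finite F] (h2 : (2 : F) ≠ 0) {m : ℕ} (hm : 2 ≤ m) (σ : F ≃+* F) :
    ∃ (M : Equiv.Perm (Unit ⊕ (Fin m ⊕ Fin m) → F)) (e₁ f₁ e₂ f₂ : Unit ⊕ (Fin m ⊕ Fin m) → F),
      Four (oddForm m F) e₁ f₁ e₂ f₂ ∧ Fx (oddForm m F) e₁ f₁ e₂ f₂ σ M := by
  obtain ⟨M, hM, hMv⟩ := exists_isSS' (nondeg_oddForm m F h2) (σ := σ) one_ne_zero (fun v i => σ (v i))
    (fun u v => funext fun i => map_add σ _ _) (fun a v => funext fun i => map_mul σ _ _) (fun v => by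
      rw [coe_oddForm, quadFormOdd_apply, quadFormOdd_apply, one_mul, _root_.RingEquiv.map_add, _root_.RingEquiv.map_sum, _root_.RingEquiv.map_pow]
      simp only [map_mul])
  obtain ⟨i0, i1, h4⟩ := four_of_emb (Q := oddForm m F) hm (Cfsg.Agent.AutOrth.Planes.oddEmb m) fun v => by
    rw [coe_oddForm, coe_plusForm, quadFormOdd_apply, quadFormPlus_apply]
    have h1 : ∀ i, Cfsg.Agent.AutOrth.Planes.oddEmb m v (.inr i) = v i := fun _ => rfl
    have h2 : Cfsg.Agent.AutOrth.Planes.oddEmb m v (.inl ()) = 0 := rfl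
    simp only [h1, h2]
    ring
  have key : ∀ i : Fin m ⊕ Fin m, M (Cfsg.Agent.AutOrth.Planes.oddEmb m (Pi.single i 1)) =
      Cfsg.Agent.AutOrth.Planes.oddEmb m (Pi.single i 1) := by
    intro i
    rw [hMv]
    funext k
    rcases k with k | k
    · exact map_zero σ
    · exact congrFun (map_single σ i) k
  exact ⟨M, _, _, _, _, h4, hM, key _, key _, key _, key _⟩

theorem minus_fx [Finite F] {m : ℕ} (hm : 2 ≤ m) (a b : F)
    (hab : ∀ z₁ z₂ : F, z₁ ^ 2 + a * z₁ * z₂ + b * z₂ ^ 2 = 0 → z₁ = 0 ∧ z₂ = 0) (σ : F ≃+* F) :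
    ∃ (M : Equiv.Perm ((Fin m ⊕ Fin m) ⊕ Fin 2 → F)) (e₁ f₁ e₂ f₂ : (Fin m ⊕ Fin m) ⊕ Fin 2 → F),
      Four (minusForm m F a b) e₁ f₁ e₂ f₂ ∧ Fx (minusForm m F a b) e₁ f₁ e₂ f₂ σ M := by
  obtain ⟨μ₁, μ₂, hμ1, hμ2⟩ := exists_twist a b hab σ
  obtain ⟨M, hM, hMv⟩ := exists_isSS' (nondeg_minusForm m F a b hab) (σ := σ) one_ne_zero
    (fun v => Sum.elim (fun i => σ (v (.inl i)))
      ![σ (v (.inr 0)) + σ (v (.inr 1)) * μ₁, σ (v (.inr 1)) * μ₂]) (by
      intro u v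
      funext i
      rcases i with i | i
      · exact _root_.RingEquiv.map_add σ _ _
      · fin_cases i
        · simp only [Pi.add_apply, _root_.RingEquiv.map_add, Sum.elim_inr, Fin.zero_eta, Matrix.cons_val_zero]
          ring
        · simp only [Pi.add_apply, _root_.RingEquiv.map_add, Sum.elim_inr, Fin.mk_one, Matrix.cons_val_one,
            Matrix.cons_val_fin_one]
          ring) (by
      intro t v
      funext i
      rcases i with i | i
      · exact map_mul σ _ _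
      · fin_cases i
        · simp only [Pi.smul_apply, smul_eq_mul, map_mul, Sum.elim_inr, Fin.zero_eta,
            Matrix.cons_val_zero]
          ring
        · simp only [Pi.smul_apply, smul_eq_mul, map_mul, Sum.elim_inr, Fin.mk_one,
            Matrix.cons_val_one, Matrix.cons_val_fin_one]
          ring) (by
      intro v
      rw [coe_minusForm, quadFormMinus_apply, quadFormMinus_apply, one_mul, _root_.RingEquiv.map_add, _root_.RingEquiv.map_sum]
      congr 1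
      · refine Finset.sum_congr rfl fun i _ => ?_
        simp only [Sum.elim_inl, map_mul]
      · simp only [Sum.elim_inr, Matrix.cons_val_zero, Matrix.cons_val_one,
          Matrix.cons_val_fin_one, _root_.RingEquiv.map_add, _root_.RingEquiv.map_mul, _root_.RingEquiv.map_pow]
        rw [← hμ1, ← hμ2]
        ring)
  obtain ⟨i0, i1, h4⟩ := four_of_emb (Q := minusForm m F a b) hm (Cfsg.Agent.AutOrth.Planes.minusEmb m) fun v => by
    rw [coe_minusForm, coe_plusForm, quadFormMinus_apply, quadFormPlus_apply]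
    have h1 : ∀ i, Cfsg.Agent.AutOrth.Planes.minusEmb m v (.inl i) = v i := fun _ => rfl
    have h2 : ∀ i, Cfsg.Agent.AutOrth.Planes.minusEmb m v (.inr i) = 0 := fun _ => rfl
    simp only [h1, h2]
    ring
  have key : ∀ i : Fin m ⊕ Fin m, M (Cfsg.Agent.AutOrth.Planes.minusEmb m (Pi.single i 1)) =
      Cfsg.Agent.AutOrth.Planes.minusEmb m (Pi.single i 1) := by
    intro i
    rw [hMv]
    funext k
    rcases k with k | k
    · exact congrFun (map_single σ i) k
    · have h0 : ∀ j : Fin 2, Cfsg.Agent.AutOrth.Planes.minusEmb m (F := F) (Pi.single i 1) (.inr j) = 0 := fun _ => rfl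
      rw [h0]
      fin_cases k <;> simp [h0]
  exact ⟨M, _, _, _, _, h4, hM, key _, key _, key _, key _⟩

end ex

/-- The criterion with all the numerical data. -/
theorem realMove_of {F : Type*} [Field F] [Finite F] {ι : Type} [Fintype ι] [DecidableEq ι]
    {Q : QuadraticForm F (ι → F)} {e₁ f₁ e₂ f₂ : ι → F} {q : (ι → F) → F} (hq : ⇑Q = q) [Finite (POmega F q)]
    [IsSimpleGroup (POmega F q)] (hna : ¬ IsMulCommutative (POmega F q)) (h2 : 2 ∣ Nat.card (POmega F q))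
    (hs : Sch (POmega F q)) (hG : Good Q) (h : Four Q e₁ f₁ e₂ f₂) {σ : F ≃+* F} {M : Equiv.Perm (ι → F)}
    (hM : Fx Q e₁ f₁ e₂ f₂ σ M) (c f : ℕ) (hc0 : c ≠ 0) (hc : ∀ r : ℕ, r.Prime → r ∣ c → r ∣ Nat.card (POmega F q))
    (hf : f ∣ orderOf σ) (hcard : Nat.card (MulAut (POmega F q)) ∣ c * f * Nat.card (POmega F q)) :
    RealMove (POmega F q) := by
  subst hq
  exact realMove hG h hM h2 (CopIn.of_card hna hs _ c hc0 hc (hcard.trans
    (Nat.mul_dvd_mul_right (Nat.mul_dvd_mul_left _ (hf.trans (orderOf_ind hG hM.ss))) _)))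

variable {F : Type*} [Field F] [Fintype F] {m : ℕ}

theorem realMove_odd (hm : 3 ≤ m) (hodd : Odd (Fintype.card F)) [Finite (Cfsg.POmega F (Cfsg.quadFormOdd m F))]
    [IsSimpleGroup (Cfsg.POmega F (Cfsg.quadFormOdd m F))]
    (hna : ¬ IsMulCommutative (Cfsg.POmega F (Cfsg.quadFormOdd m F)))
    (h2 : 2 ∣ Nat.card (Cfsg.POmega F (Cfsg.quadFormOdd m F))) :
    Cfsg.Agent.H531.RealMove (Cfsg.POmega F (Cfsg.quadFormOdd m F)) := by
  obtain ⟨p, hchar⟩ := CharP.exists F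
  obtain ⟨f, hp, hf⟩ := FiniteField.card F p
  have hpf : Fact p.Prime := ⟨hp⟩
  have hpodd : Odd p := by
    rw [hf] at hodd
    exact (Nat.odd_pow_iff f.pos.ne').1 hodd
  have h20 : (2 : F) ≠ 0 := Cfsg.Agent.LieClassical.PomegaCard.odd_card_iff.1 hodd
  have hcard := S0816.result p f f.pos hf hpodd m hm
  have hf' : Nat.card (F ≃+* F) = f := Lib.FieldAutCard.card_ringAut f.pos hf
  obtain ⟨ρ, hρ, -⟩ := exists_ringAut F
  obtain ⟨M, e₁, f₁, e₂, f₂, h4, hM⟩ := odd_fx h20 (m := m) (by omega) ρ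
  refine realMove_of (coe_oddForm m F) hna h2 (Schreier.ClassPOmega.sch_odd hm h20)
    (good_odd (F := F) (m := m) (by omega) h20) h4 hM 2 f two_ne_zero ?_ (by rw [hρ, hf']) ?_
  · intro r hr hd
    rw [(Nat.prime_dvd_prime_iff_eq hr Nat.prime_two).1 hd]; exact h2
  · rw [hcard]

theorem realMove_plus (hm : 4 ≤ m) [Finite (Cfsg.POmega F (Cfsg.quadFormPlus m F))]
    [IsSimpleGroup (Cfsg.POmega F (Cfsg.quadFormPlus m F))]
    (hna : ¬ IsMulCommutative (Cfsg.POmega F (Cfsg.quadFormPlus m F)))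
    (h2 : 2 ∣ Nat.card (Cfsg.POmega F (Cfsg.quadFormPlus m F))) :
    Cfsg.Agent.H531.RealMove (Cfsg.POmega F (Cfsg.quadFormPlus m F)) := by
  obtain ⟨p, hchar⟩ := CharP.exists F
  obtain ⟨f, hp, hf⟩ := FiniteField.card F p
  have hpf : Fact p.Prime := ⟨hp⟩
  have hcard := S0817.result p f f.pos hf m hm
  have hf' : Nat.card (F ≃+* F) = f := Lib.FieldAutCard.card_ringAut f.pos hf
  obtain ⟨ρ, hρ, -⟩ := exists_ringAut F
  obtain ⟨M, e₁, f₁, e₂, f₂, h4, hM⟩ := plus_fx (F := F) (m := m) (by omega) ρ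
  refine realMove_of (coe_plusForm m F) hna h2 (Schreier.ClassPOmega.sch_plus hm)
    (good_plus (F := F) (m := m) (by omega)) h4 hM (3 * 8) f (by norm_num) ?_ (by rw [hρ, hf']) ?_
  · intro r hr hd
    rcases (hr.dvd_mul).1 hd with h | h
    · rw [(Nat.prime_dvd_prime_iff_eq hr Nat.prime_three).1 h]; exact three_dvd_plus hm
    · have h4 : r ∣ 2 ^ 3 := h
      rw [(Nat.prime_dvd_prime_iff_eq hr Nat.prime_two).1 (hr.dvd_of_dvd_pow h4)]; exact h2
  · rw [hcard]
    have h6 : (if m = 4 then 3 else 1) ∣ 3 := by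
      split_ifs
      · exact dvd_rfl
      · exact one_dvd _
    have h7 : (if p = 2 then 2 else (if Even (m * (p ^ (f : ℕ) - 1) / 2) then 8 else 4)) ∣ 8 := by
      split_ifs
      · exact ⟨4, by norm_num⟩
      · exact dvd_rfl
      · exact ⟨2, by norm_num⟩
    exact Nat.mul_dvd_mul_right (Nat.mul_dvd_mul (Nat.mul_dvd_mul h6 h7) dvd_rfl) _

theorem realMove_minus (hm : 4 ≤ m) (a b : F)
    (hab : ∀ z₁ z₂ : F, z₁ ^ 2 + a * z₁ * z₂ + b * z₂ ^ 2 = 0 → z₁ = 0 ∧ z₂ = 0)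
    [Finite (Cfsg.POmega F (Cfsg.quadFormMinus (m - 1) F a b))]
    [IsSimpleGroup (Cfsg.POmega F (Cfsg.quadFormMinus (m - 1) F a b))]
    (hna : ¬ IsMulCommutative (Cfsg.POmega F (Cfsg.quadFormMinus (m - 1) F a b)))
    (h2 : 2 ∣ Nat.card (Cfsg.POmega F (Cfsg.quadFormMinus (m - 1) F a b))) :
    Cfsg.Agent.H531.RealMove (Cfsg.POmega F (Cfsg.quadFormMinus (m - 1) F a b)) := by
  obtain ⟨p, hchar⟩ := CharP.exists F
  obtain ⟨f, hp, hf⟩ := FiniteField.card F p
  have hpf : Fact p.Prime := ⟨hp⟩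
  have hcard := S0818.result p f f.pos hf m hm a b hab
  have hf' : Nat.card (F ≃+* F) = f := Lib.FieldAutCard.card_ringAut f.pos hf
  obtain ⟨ρ, hρ, -⟩ := exists_ringAut F
  obtain ⟨M, e₁, f₁, e₂, f₂, h4, hM⟩ := minus_fx (F := F) (m := m - 1) (by omega) a b hab ρ
  refine realMove_of (coe_minusForm (m - 1) F a b) hna h2 (Schreier.ClassPOmega.sch_minus hm a b hab)
    (good_minus (F := F) (m := m - 1) (by omega) a b hab) h4 hM 8 f (by norm_num) ?_ (by rw [hρ, hf']) ?_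
  · intro r hr hd
    have h4 : r ∣ 2 ^ 3 := hd
    rw [(Nat.prime_dvd_prime_iff_eq hr Nat.prime_two).1 (hr.dvd_of_dvd_pow h4)]; exact h2
  · rw [hcard]
    have h7 : (if p = 2 then 2 else (if Even (m * (p ^ (f : ℕ) - 1) / 2) then 4 else 8)) ∣ 8 := by
      split_ifs
      · exact ⟨4, by norm_num⟩
      · exact ⟨2, by norm_num⟩
      · exact dvd_rfl
    exact Nat.mul_dvd_mul_right (Nat.mul_dvd_mul h7 dvd_rfl) _

end Cfsg.Agent.H522.RealOrth
end

-- part: H531/FMOrth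
section
set_option linter.all false
open scoped Cfsg.Agent.FastGrp

/-!
# `FM` for the orthogonal groups
-/

set_option autoImplicit false
set_option linter.unusedSectionVars false

namespace Cfsg.Agent.H531.FMOrth

open QuadraticMap Cfsg Cfsg.Agent.LieClassical.OrthCore Cfsg.Agent.LieClassical.OrthTrans
open Cfsg.Agent.ClassicalGeometry.OrthSemi Cfsg.Agent.ClassicalGeometry.OrthSemiCount
open Cfsg.Agent.ClassicalGeometry.OrthSemiForms Cfsg.Agent.LieClassical.OrthSimple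
  Cfsg.Agent.LieClassical.OrthForms
open Cfsg.Agent.H254 Cfsg.Agent.H254.Orth Cfsg.Agent.H531 Cfsg.Agent.Schreier.Basic Cfsg.Agent.H522.RealOrth
open Cfsg.Agent.ClassicalGeometry.OrthAut1 (P)
open Cfsg.Agent.UGT.U2.FOne.Orth (Four)
open Matrix (SpecialLinearGroup)

section fam

variable {F : Type*} [Field F] [Finite F] {ι : Type} [Fintype ι] [DecidableEq ι] {Q : QuadraticForm F (ι → F)}
  {e₁ f₁ e₂ f₂ : ι → F}

/-- **The criterion.** -/
theorem crit (hG : Good Q) (h : Four Q e₁ f₁ e₂ f₂) {σ : F ≃+* F} {M : Equiv.Perm (ι → F)}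
    (hM : Fx Q e₁ f₁ e₂ f₂ σ M) (h2 : 2 ∣ Nat.card (POmega F ⇑Q)) (hco : CopIn (POmega F ⇑Q) (ind hG hM.gam)) :
    FM (POmega F ⇑Q) := by
  obtain ⟨u, hu⟩ := IsCyclic.exists_generator (α := Fˣ)
  refine FM.of_copIn hco (jj hG h (diagSL F u)) (jj hG h (weylSL F)) ?_ ?_ ?_
  · intro k
    rw [ind_zpow hG hM k]
    have hMk := hM.zpow k
    obtain ⟨m, hm⟩ := MonoidHom.map_cyclic (Units.map ((σ ^ k : F ≃+* F) : F →* F))
    have h3 : ind hG (hM.zpow k).gam (jj hG h (diagSL F u)) = jj hG h (diagSL F u) ^ m := by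
      rw [ind_jj, ← map_zpow, ← map_zpow, map_diagSL, hm]
    rw [h3]
    exact Subgroup.zpow_mem _ (Subgroup.mem_zpowers _) _
  · intro p k hp hpK hpow hne
    rw [ind_zpow hG hM k] at hpow hne ⊢
    have hMk := hM.zpow k
    set τ : F ≃+* F := σ ^ k with hτ
    intro h4
    rw [ind_jj, map_diagSL] at h4
    have h5 := jj_injective hG h h4
    have h6 : τ (u : F) = u := by
      have := congrFun (congrFun (congrArg Subtype.val h5) 0) 0
      exact this
    -- `τ = 1`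
    have h7 : τ = 1 := by
      ext x
      rcases eq_or_ne x 0 with hx | hx
      · rw [hx, map_zero, map_zero]
      · obtain ⟨j, hj⟩ := Subgroup.mem_zpowers_iff.1 (hu (Units.mk0 x hx))
        have h8 : Units.map (τ : F →* F) u = u := Units.ext h6
        have h9 : Units.map (τ : F →* F) (Units.mk0 x hx) = Units.mk0 x hx := by
          rw [← hj, map_zpow, h8]
        exact congrArg Units.val h9
    have h10 : Cfsg.Agent.H208.ConjSS.Lin hMk.gam := ⟨1, by
      have := hMk.ss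
      rw [h7] at this
      exact this⟩
    obtain ⟨g, hg⟩ := Cfsg.Agent.H521.OddFixOrth.psi_pow_four_inner hG h10
    have h11 : ind hG hMk.gam ^ 4 = MulAut.conj ((pomegaEquiv hG).symm g) := by
      unfold ind
      rw [← map_pow, hg]
      ext x
      show (pomegaEquiv hG).symm (MulAut.conj g (pomegaEquiv hG x)) = _
      rw [MulAut.conj_apply, MulAut.conj_apply, map_mul, map_mul, map_inv, MulEquiv.symm_apply_apply]
    have hpf : Fact p.Prime := ⟨hp⟩
    have ho : orderOf (ind hG hMk.gam) = p := orderOf_eq_prime hpow hne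
    have hp2 : p ≠ 2 := by
      rintro rfl
      exact hpK h2
    have h12 : orderOf (ind hG hMk.gam ^ 4) = p := by
      rw [Nat.Coprime.orderOf_pow, ho]
      rw [ho]
      exact (Nat.Prime.coprime_iff_not_dvd hp).2 fun h => hp2
        ((Nat.prime_dvd_prime_iff_eq hp Nat.prime_two).1 (hp.dvd_of_dvd_pow (show p ∣ 2 ^ 2 from h)))
    rw [h11] at h12
    exact hpK (h12 ▸ (orderOf_map_dvd _ _).trans (orderOf_dvd_natCard _))
  · rw [← map_inv, ← map_inv, ← map_mul, ← map_mul, weylSL_conj]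

end fam

/-- The criterion with all the numerical data. -/
theorem fm_of {F : Type*} [Field F] [Finite F] {ι : Type} [Fintype ι] [DecidableEq ι]
    {Q : QuadraticForm F (ι → F)} {e₁ f₁ e₂ f₂ : ι → F} {q : (ι → F) → F} (hq : ⇑Q = q) [Finite (POmega F q)]
    [IsSimpleGroup (POmega F q)] (hna : ¬ IsMulCommutative (POmega F q)) (h2 : 2 ∣ Nat.card (POmega F q))
    (hs : Sch (POmega F q)) (hG : Good Q) (h : Four Q e₁ f₁ e₂ f₂) {σ : F ≃+* F} {M : Equiv.Perm (ι → F)}
    (hM : Fx Q e₁ f₁ e₂ f₂ σ M) (c f : ℕ) (hc0 : c ≠ 0) (hc : ∀ r : ℕ, r.Prime → r ∣ c → r ∣ Nat.card (POmega F q))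
    (hf : f ∣ orderOf σ) (hcard : Nat.card (MulAut (POmega F q)) ∣ c * f * Nat.card (POmega F q)) :
    FM (POmega F q) := by
  subst hq
  exact crit hG h hM h2 (CopIn.of_card hna hs _ c hc0 hc (hcard.trans
    (Nat.mul_dvd_mul_right (Nat.mul_dvd_mul_left _ (hf.trans (orderOf_ind hG hM.ss))) _)))

variable {F : Type*} [Field F] [Fintype F] {m : ℕ}

theorem odd (hm : 3 ≤ m) (hodd : Odd (Fintype.card F)) [Finite (Cfsg.POmega F (Cfsg.quadFormOdd m F))]
    [IsSimpleGroup (Cfsg.POmega F (Cfsg.quadFormOdd m F))]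
    (hna : ¬ IsMulCommutative (Cfsg.POmega F (Cfsg.quadFormOdd m F)))
    (h2 : 2 ∣ Nat.card (Cfsg.POmega F (Cfsg.quadFormOdd m F))) :
    Cfsg.Agent.H531.FM (Cfsg.POmega F (Cfsg.quadFormOdd m F)) := by
  obtain ⟨p, hchar⟩ := CharP.exists F
  obtain ⟨f, hp, hf⟩ := FiniteField.card F p
  have hpf : Fact p.Prime := ⟨hp⟩
  have hpodd : Odd p := by
    rw [hf] at hodd
    exact (Nat.odd_pow_iff f.pos.ne').1 hodd
  have h20 : (2 : F) ≠ 0 := Cfsg.Agent.LieClassical.PomegaCard.odd_card_iff.1 hodd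
  have hcard := S0816.result p f f.pos hf hpodd m hm
  have hf' : Nat.card (F ≃+* F) = f := Lib.FieldAutCard.card_ringAut f.pos hf
  obtain ⟨ρ, hρ, -⟩ := exists_ringAut F
  obtain ⟨M, e₁, f₁, e₂, f₂, h4, hM⟩ := odd_fx h20 (m := m) (by omega) ρ
  refine fm_of (coe_oddForm m F) hna h2 (Schreier.ClassPOmega.sch_odd hm h20)
    (good_odd (F := F) (m := m) (by omega) h20) h4 hM 2 f two_ne_zero ?_ (by rw [hρ, hf']) ?_
  · intro r hr hd
    rw [(Nat.prime_dvd_prime_iff_eq hr Nat.prime_two).1 hd]; exact h2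
  · rw [hcard]

theorem plus (hm : 4 ≤ m) [Finite (Cfsg.POmega F (Cfsg.quadFormPlus m F))]
    [IsSimpleGroup (Cfsg.POmega F (Cfsg.quadFormPlus m F))]
    (hna : ¬ IsMulCommutative (Cfsg.POmega F (Cfsg.quadFormPlus m F)))
    (h2 : 2 ∣ Nat.card (Cfsg.POmega F (Cfsg.quadFormPlus m F))) :
    Cfsg.Agent.H531.FM (Cfsg.POmega F (Cfsg.quadFormPlus m F)) := by
  obtain ⟨p, hchar⟩ := CharP.exists F
  obtain ⟨f, hp, hf⟩ := FiniteField.card F p
  have hpf : Fact p.Prime := ⟨hp⟩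
  have hcard := S0817.result p f f.pos hf m hm
  have hf' : Nat.card (F ≃+* F) = f := Lib.FieldAutCard.card_ringAut f.pos hf
  obtain ⟨ρ, hρ, -⟩ := exists_ringAut F
  obtain ⟨M, e₁, f₁, e₂, f₂, h4, hM⟩ := plus_fx (F := F) (m := m) (by omega) ρ
  refine fm_of (coe_plusForm m F) hna h2 (Schreier.ClassPOmega.sch_plus hm)
    (good_plus (F := F) (m := m) (by omega)) h4 hM (3 * 8) f (by norm_num) ?_ (by rw [hρ, hf']) ?_
  · intro r hr hd
    rcases (hr.dvd_mul).1 hd with h | h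
    · rw [(Nat.prime_dvd_prime_iff_eq hr Nat.prime_three).1 h]; exact three_dvd_plus hm
    · have h4 : r ∣ 2 ^ 3 := h
      rw [(Nat.prime_dvd_prime_iff_eq hr Nat.prime_two).1 (hr.dvd_of_dvd_pow h4)]; exact h2
  · rw [hcard]
    have h6 : (if m = 4 then 3 else 1) ∣ 3 := by
      split_ifs
      · exact dvd_rfl
      · exact one_dvd _
    have h7 : (if p = 2 then 2 else (if Even (m * (p ^ (f : ℕ) - 1) / 2) then 8 else 4)) ∣ 8 := by
      split_ifs
      · exact ⟨4, by norm_num⟩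
      · exact dvd_rfl
      · exact ⟨2, by norm_num⟩
    exact Nat.mul_dvd_mul_right (Nat.mul_dvd_mul (Nat.mul_dvd_mul h6 h7) dvd_rfl) _

theorem minus (hm : 4 ≤ m) (a b : F)
    (hab : ∀ z₁ z₂ : F, z₁ ^ 2 + a * z₁ * z₂ + b * z₂ ^ 2 = 0 → z₁ = 0 ∧ z₂ = 0)
    [Finite (Cfsg.POmega F (Cfsg.quadFormMinus (m - 1) F a b))]
    [IsSimpleGroup (Cfsg.POmega F (Cfsg.quadFormMinus (m - 1) F a b))]
    (hna : ¬ IsMulCommutative (Cfsg.POmega F (Cfsg.quadFormMinus (m - 1) F a b)))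
    (h2 : 2 ∣ Nat.card (Cfsg.POmega F (Cfsg.quadFormMinus (m - 1) F a b))) :
    Cfsg.Agent.H531.FM (Cfsg.POmega F (Cfsg.quadFormMinus (m - 1) F a b)) := by
  obtain ⟨p, hchar⟩ := CharP.exists F
  obtain ⟨f, hp, hf⟩ := FiniteField.card F p
  have hpf : Fact p.Prime := ⟨hp⟩
  have hcard := S0818.result p f f.pos hf m hm a b hab
  have hf' : Nat.card (F ≃+* F) = f := Lib.FieldAutCard.card_ringAut f.pos hf
  obtain ⟨ρ, hρ, -⟩ := exists_ringAut F
  obtain ⟨M, e₁, f₁, e₂, f₂, h4, hM⟩ := minus_fx (F := F) (m := m - 1) (by omega) a b hab ρ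
  refine fm_of (coe_minusForm (m - 1) F a b) hna h2 (Schreier.ClassPOmega.sch_minus hm a b hab)
    (good_minus (F := F) (m := m - 1) (by omega) a b hab) h4 hM 8 f (by norm_num) ?_ (by rw [hρ, hf']) ?_
  · intro r hr hd
    have h4 : r ∣ 2 ^ 3 := hd
    rw [(Nat.prime_dvd_prime_iff_eq hr Nat.prime_two).1 (hr.dvd_of_dvd_pow h4)]; exact h2
  · rw [hcard]
    have h7 : (if p = 2 then 2 else (if Even (m * (p ^ (f : ℕ) - 1) / 2) then 4 else 8)) ∣ 8 := by
      split_ifs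
      · exact ⟨4, by norm_num⟩
      · exact ⟨2, by norm_num⟩
      · exact dvd_rfl
    exact Nat.mul_dvd_mul_right (Nat.mul_dvd_mul h7 dvd_rfl) _

end Cfsg.Agent.H531.FMOrth
end
end
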