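import Cfsg.Agent.H531.FMove_m3
import Cfsg.Agent.H531.RMChev
import Cfsg.Agent.H967.CopD4_m3
import Cfsg.Agent.S1067
import Cfsg.Agent.Prune
set_option linter.all false
prune_inst 0x7f00000000000000000000000000000000000000000000000000000000000000000000000000000000000000000000000000000000000000000000000000000000000000000000000000000000000000003fffffffffffffffffffffffffffbeffbdffffffff
open scoped Cfsg.Agent.FastGrp

/-!
# `RealMove` for `³D₄(q)`, `²E₆(q)`
-/

set_option autoImplicit false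

namespace Cfsg.Agent.H531.RMTw

open Cfsg.Lie Cfsg.Agent.H967.CopMat Cfsg.Agent.H967.CopRow Cfsg.Agent.H967.CopTw
  Cfsg.Agent.ChevalleyStructure Cfsg.Agent.ChevalleyStructure.Elts Cfsg.Agent.H531.RMChev

universe v

variable {K : Type v} [Field K] [Fintype K] {q : ℕ}

theorem realMove_of_root {D : ChevalleyDatum} (hD : InList D) {r : ℕ} (hr : r < D.nroots)
    {G : Subgroup (GL D.Idx K)} (R : Row G) (h2 : 2 ∣ Nat.card ↥G) {d : ℕ} (hq : 2 ≤ q)
    (hK : Fintype.card K = q ^ d) (φ : K →+* K) (hφ : ∀ x, φ x = x ^ q)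
    (hup : ∀ t : K, φ t = t → xG hD r t ∈ G) (hlo : ∀ t : K, φ t = t → xG hD (D.neg r) t ∈ G)
    (hfac : ∀ p : ℕ, p.Prime → p ∣ d.factorial → p ∣ Nat.card ↥G) : RealMove ↥G := by
  have e1 : ∀ t : K, SL2Hom.phi (SL2All.good_of_mem D hD r hr) K (SL2Hom.up t) = xG hD r t := fun t =>
    Units.ext (SL2Hom.phi_upper _ _ t rfl)
  have e2 : ∀ t : K, SL2Hom.phi (SL2All.good_of_mem D hD r hr) K (SL2Hom.lo t) = xG hD (D.neg r) t := fun t =>
    Units.ext (SL2Hom.phi_lower _ _ t rfl)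
  refine RealMove.of_row_fixed R h2 (SL2Hom.phi (SL2All.good_of_mem D hD r hr) K) hq hK φ hφ ?_ ?_ ?_ ?_ ?_ hfac
  · intro t ht
    rw [e1]
    exact hup t ht
  · intro t ht
    rw [e2]
    exact hlo t ht
  · intro τ t
    rw [e1, e1, map_xG]
  · intro τ t
    rw [e2, e2, map_xG]
  · intro t ht
    rw [e1] at ht
    exact (xG_eq_one_iff hD hr t).1 ht

theorem realMove_d4 (hq : IsPrimePow q) (hK : Fintype.card K = q ^ 3) : RealMove ↥(twistedD4 K q) := by
  obtain ⟨φ, hφ⟩ := D4Fixed.exists_frob hq hK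
  have hc := S1067.result hq hK
  have hq2 : 2 ≤ q := hq.two_le
  have h2 : 2 ∣ Nat.card ↥(twistedD4 K q) := by
    rw [hc, mul_assoc]
    exact H967.CopChev.two_dvd_of (by norm_num)
  have h3 : 3 ∣ Nat.card ↥(twistedD4 K q) := by
    rw [hc]
    rcases Nat.lt_or_ge (q % 3) 1 with h | h
    · have h3q : 3 ∣ q := Nat.dvd_of_mod_eq_zero (by omega)
      exact ((((h3q.trans (dvd_pow_self q (by norm_num))).mul_right _).mul_right _).mul_right _)
    · have h5 : (q ^ 2) % 3 = 1 := by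
        have : q % 3 = 1 ∨ q % 3 = 2 := by omega
        rcases this with h4 | h4 <;> simp [Nat.pow_mod, h4]
      have h6 : 3 ∣ q ^ 2 - 1 := by omega
      exact (((h6.mul_left _).mul_right _).mul_right _)
  refine realMove_of_root (r := 14) (D := chevD4) (by simp) (by decide) (row_d4 hq hK) h2 hq2 hK φ hφ ?_ ?_ ?_
  · intro t ht
    exact D4U.xG14_mem hφ ht
  · intro t ht
    have h1 := D4Fixed.x9_mem (K := K) ((hφ t).symm.trans ht)
    rw [D4U.xU_eq] at h1
    exact h1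
  · intro p hp hd
    have h6 : p ∣ 2 * 3 := hd
    rcases hp.dvd_mul.1 h6 with h | h
    · rw [(Nat.prime_dvd_prime_iff_eq hp Nat.prime_two).1 h]; exact h2
    · rw [(Nat.prime_dvd_prime_iff_eq hp Nat.prime_three).1 h]; exact h3

theorem realMove_2e6 (hq : IsPrimePow q) (hK : Fintype.card K = q ^ 2)
    (hs : Schreier.Basic.Sch ↥(twistedE6 K q)) (h2 : 2 ∣ Nat.card ↥(twistedE6 K q)) :
    RealMove ↥(twistedE6 K q) := by
  obtain ⟨φ, hφ, hqq⟩ := TwE6Basic.exists_frob hq hK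
  refine realMove_of_root (r := 46) (D := chevE6) (by simp) (by decide) (row_2e6 hq hK hs) h2 hq.two_le hK φ hφ ?_ ?_ ?_
  · intro t ht
    exact E6Fixed.x_mem (by simp) ((hφ t).symm.trans ht)
  · intro t ht
    have hn : chevE6.neg 46 = 25 := by decide +kernel
    rw [hn]
    exact E6Fixed.x_mem (by simp) ((hφ t).symm.trans ht)
  · intro p hp hd
    have h6 : p ∣ 2 := hd
    rw [(Nat.prime_dvd_prime_iff_eq hp Nat.prime_two).1 h6]; exact h2

end Cfsg.Agent.H531.RMTw
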