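import Cfsg.Agent.H531.LemX_m3
import Cfsg.Agent.H531.RMMain
import Cfsg.Agent.H531.FMOrth
import Cfsg.Agent.S0000
import Cfsg.Agent.FastGrp
import Cfsg.Agent.Prune
set_option linter.all false
prune_inst 0x7f00000000000000000000000000000000000000000000000000000000000000000000000000000000000000000000000000000000000000000000000000000000000000000000000000000000000000003fffffffffffffffffffffffffffbeffbdffffffff
open scoped Cfsg.Agent.FastGrp

-- part: H531/AdjTwo
section
/-!
# A prime dividing a class size of a nonsolvable group is adjacent to `2`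

`exists_two_mul_dvd` : if `G` is not solvable and the odd prime `p` divides some class size, then `2p` divides some
class size. Hypothesis: `RealMove` for the nonabelian simple groups.
-/

set_option autoImplicit false

namespace Cfsg.Agent.H531.Red

open Cfsg.Agent.H531.TwoPrimes Cfsg.Agent.H531.ClassIndex Cfsg.Agent.H531.Sizes Subgroup
open Cfsg.Agent.Lib.MinNormalNonabelian Cfsg.Agent.Lib.MinNormal

universe u

/-- `RealMove` for all nonabelian simple groups. -/
def RealMoveAll : Prop :=
  ∀ (S : Type u) [Group S] [Finite S] [IsSimpleGroup S], ¬ IsMulCommutative S → RealMove S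

theorem exists_minimal {G : Type u} [Group G] [Finite G] {M : Subgroup G} (hM : M.Normal) (hM1 : M ≠ ⊥) :
    ∃ N : Subgroup G, N.Normal ∧ N ≠ ⊥ ∧ N ≤ M ∧ ∀ L : Subgroup G, L.Normal → L ≤ N → L = ⊥ ∨ L = N := by
  have hfin : {L : Subgroup G | L.Normal ∧ L ≠ ⊥ ∧ L ≤ M}.Finite := Set.toFinite _
  obtain ⟨N, ⟨h1, h2, h3⟩, hmin⟩ := hfin.exists_minimal ⟨M, hM, hM1, le_rfl⟩
  refine ⟨N, h1, h2, h3, fun L hL hLN => ?_⟩
  by_cases hL1 : L = ⊥
  · exact Or.inl hL1
  · exact Or.inr (le_antisymm hLN (hmin ⟨hL, hL1, hLN.trans h3⟩ hLN))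

variable {G : Type u} [Group G] [Finite G] {p : ℕ} [Fact p.Prime]

/-- A nonabelian minimal normal subgroup has order prime to `p`. -/
theorem Bad.not_dvd_card (B : Bad p G) (P : Sylow p G) (N : Subgroup G) [N.Normal]
    (hmin : ∀ M : Subgroup G, M.Normal → M ≤ N → M = ⊥ ∨ M = N)
    (hna : ¬ ∀ x ∈ N, ∀ y ∈ N, Commute x y) : ¬ p ∣ Nat.card N := by
  have h1 := MonoidHom.not_dvd_card_ker_transferSylow P (B.norm_le P)
  set τ := MonoidHom.transferSylow P (B.norm_le P) with hτ
  rcases hmin (τ.ker ⊓ N) inferInstance inf_le_right with h | h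
  · exfalso
    apply hna
    intro x hx y hy
    have h2 : x * y * x⁻¹ * y⁻¹ ∈ τ.ker ⊓ N := by
      refine Subgroup.mem_inf.2 ⟨?_, ?_⟩
      · rw [MonoidHom.mem_ker]
        simp only [map_mul, map_inv]
        have h3 : τ x * τ y = τ y * τ x := Subtype.ext (B.comm P (τ x).2 (τ y).2)
        rw [h3]; group
      · exact mul_mem (mul_mem (mul_mem hx hy) (inv_mem hx)) (inv_mem hy)
    rw [h, Subgroup.mem_bot] at h2
    show x * y = y * x
    have h4 : x * y = (x * y * x⁻¹ * y⁻¹) * (y * x) := by group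
    rw [h4, h2, one_mul]
  · intro hd
    exact h1 (hd.trans (Subgroup.card_dvd_of_le (inf_eq_right.1 h)))

/-- No nonabelian minimal normal subgroups. -/
theorem Bad.false_of_nonabelian (B : Bad p G) (hRM : RealMoveAll.{u}) (N : Subgroup G) [N.Normal]
    (hmin : ∀ M : Subgroup G, M.Normal → M ≤ N → M = ⊥ ∨ M = N)
    (hna : ¬ ∀ x ∈ N, ∀ y ∈ N, Commute x y) : False := by
  obtain ⟨P⟩ : Nonempty (Sylow p G) := inferInstance
  obtain ⟨hne, hind, hsup, hsim, hcen, hconj⟩ := nonabelian_structure N hmin hna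
  have hnab : ∀ T ∈ minSet N, ¬ IsMulCommutative T := by
    intro T hT hc
    apply hT.2.1
    rw [eq_bot_iff]
    intro z hz
    rw [Subgroup.mem_bot]
    refine hcen T hT z hz fun t ht => ?_
    have := hc.is_comm.comm ⟨z, hz⟩ ⟨t, ht⟩
    exact congrArg Subtype.val this
  have hns : ∀ T ∈ minSet N, ¬ Group.IsSolvable T := by
    intro T hT hs
    have := hsim T hT
    exact hnab T hT ⟨⟨IsSimpleGroup.comm_iff_isSolvable.2 hs⟩⟩
  obtain ⟨T₀, hT₀⟩ := hne
  have hNns : ¬ Group.IsSolvable N := by
    intro hs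
    apply hns T₀ hT₀
    exact Group.isSolvable_of_isSolvable_injective (f := Subgroup.inclusion hT₀.1) (Subgroup.inclusion_injective _)
  have hcomm : ∀ S ∈ minSet N, ∀ T ∈ minSet N, S ≠ T → ∀ x ∈ S, ∀ y ∈ T, Commute x y := by
    intro S hS T hT hST x hx y hy
    exact commute_of_mem (K := N) hind (fun S hS => hS.2.2.1) (fun S hS => hS.1) hS hT hST hx hy
  by_cases hmove : ∃ g ∈ P, ∃ T ∈ minSet N, T.map (MulAut.conj g).toMonoidHom ≠ T
  · exact B.false_of_moves P N hcomm hcen hconj hns hmove
  · push Not at hmove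
    have hP := B.not_le_centralizer P N hNns
    obtain ⟨g, hg, hgN⟩ := SetLike.not_le_iff_exists.1 hP
    have hT : ∃ T ∈ minSet N, g ∉ Subgroup.centralizer (T : Set G) := by
      by_contra hcon
      push Not at hcon
      apply hgN
      have h1 : N ≤ Subgroup.centralizer ({g} : Set G) := by
        rw [← hsup]
        refine sSup_le fun T hT => ?_
        intro t ht
        rw [Subgroup.mem_centralizer_singleton_iff]
        exact Subgroup.mem_centralizer_iff.1 (hcon T hT) t ht
      rw [Subgroup.mem_centralizer_iff]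
      intro n hn
      exact Subgroup.mem_centralizer_singleton_iff.1 (h1 hn)
    obtain ⟨T, hT, hgT⟩ := hT
    have hpT : ¬ p ∣ Nat.card T := fun hd => B.not_dvd_card P N hmin hna (hd.trans (Subgroup.card_dvd_of_le hT.1))
    have := hsim T hT
    obtain ⟨k, hk⟩ := P.isPGroup' ⟨g, hg⟩
    have hk' : g ^ p ^ k = 1 := congrArg Subtype.val hk
    exact B.false_of_normalizes hpT (hRM T (hnab T hT)) hk'
      (mem_normalizer_iff_map_conj_eq.2 (hmove g hg T hT)) hgT

theorem not_bad (hRM : RealMoveAll.{u}) (n : ℕ) :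
    ∀ (G : Type u) [Group G] [Finite G], Nat.card G = n → ¬ Bad p G := by
  induction n using Nat.strong_induction_on with
  | _ n ih =>
    intro G _ _ hn B
    obtain ⟨P⟩ : Nonempty (Sylow p G) := inferInstance
    have hcomm : ∀ (N : Subgroup G) (_ : N.Normal), N ≠ ⊥ → ¬ Group.IsSolvable (G ⧸ N) → ∀ g : G, ∀ y ∈ P,
        g * y * g⁻¹ * y⁻¹ ∈ N := by
      intro N hN hN1 hs g y hy
      have hlt : Nat.card (G ⧸ N) < n := by
        rw [← hn]
        have h1 := Subgroup.card_mul_index N
        have h2 : 1 < Nat.card N := by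
          have h3 : Nat.card N ≠ 1 := fun h => hN1 (Subgroup.card_eq_one.1 h)
          have h4 : 0 < Nat.card N := Nat.card_pos
          omega
        have h3 : 0 < N.index := Nat.pos_of_ne_zero Subgroup.index_ne_zero_of_finite
        rw [← h1]
        show N.index < _
        nlinarith
      exact B.comm_mem P N hs (ih _ hlt (G ⧸ N) rfl) g hy
    by_cases hall : ∀ N : Subgroup G, N.Normal → (∀ M : Subgroup G, M.Normal → M ≤ N → M = ⊥ ∨ M = N) →
        ∀ x ∈ N, ∀ y ∈ N, Commute x y
    · have hquo : ∀ (N : Subgroup G) (_ : N.Normal), (∀ x ∈ N, ∀ y ∈ N, Commute x y) →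
          ¬ Group.IsSolvable (G ⧸ N) := by
        intro N hN hab hs
        apply B.ns
        have h2 : Group.IsSolvable N := Group.isSolvable_of_comm fun a b => Subtype.ext (hab a a.2 b b.2).eq
        exact (Group.isSolvable_iff_subgroup_quotient N).2 ⟨h2, hs⟩
      have hG1 : (⊤ : Subgroup G) ≠ ⊥ := by
        intro h
        exact B.ns (Group.isSolvable_of_top_eq_bot G h)
      obtain ⟨N, hN, hN1, -, hmin⟩ := exists_minimal (inferInstance : (⊤ : Subgroup G).Normal) hG1
      have hab := hall N hN hmin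
      have hc := hcomm N hN hN1 (hquo N hN hab)
      refine B.false_of_abelian P N hN1 hmin hab hc ?_
      intro M hM hM1
      obtain ⟨L, hL, hL1, hLM, hLmin⟩ := exists_minimal hM hM1
      have hLab := hall L hL hLmin
      have hLc := hcomm L hL hL1 (hquo L hL hLab)
      rcases hmin (N ⊓ L) inferInstance inf_le_left with h | h
      · exfalso
        apply B.not_le_center P
        intro y hy
        rw [Subgroup.mem_center_iff]
        intro g
        have h1 : g * y * g⁻¹ * y⁻¹ ∈ N ⊓ L := ⟨hc g y hy, hLc g y hy⟩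
        rw [h, Subgroup.mem_bot] at h1
        have h2 : g * y = (g * y * g⁻¹ * y⁻¹) * (y * g) := by group
        rw [h2, h1, one_mul]
      · exact (inf_eq_left.1 h).trans hLM
    · push Not at hall
      obtain ⟨N, hN, hmin, x, hx, y, hy, hxy⟩ := hall
      exact B.false_of_nonabelian hRM N hmin (fun h => hxy (h x hx y hy))

/-- **Theorem A.** An odd prime dividing a class size of a nonsolvable group is adjacent to `2`. -/
theorem exists_two_mul_dvd (hRM : RealMoveAll.{u}) (hG : ¬ Group.IsSolvable G) (hp2 : p ≠ 2)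
    (hp : ∃ x : G, p ∣ cs x) : ∃ x : G, 2 * p ∣ cs x := by
  by_contra hcon
  push Not at hcon
  refine not_bad (p := p) hRM (Nat.card G) G rfl ⟨hG, hp, ?_⟩
  rintro x ⟨h1, h2⟩
  exact hcon x (Nat.Coprime.mul_dvd_of_dvd_of_dvd ((Nat.coprime_primes Nat.prime_two Fact.out).2 hp2.symm) h1 h2)

end Cfsg.Agent.H531.Red
end

-- part: H531/RMAll
section
/-!
# `RealMove` for all non-abelian simple groups
-/

set_option autoImplicit false

namespace Cfsg.Agent.H531.RMAll

open Cfsg.Agent.H531

universe u

theorem orthRows : RMMain.OrthRows where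
  odd := fun _ _ _ _ hm hodd _ _ hna h2 => H522.RealOrth.realMove_odd hm hodd hna h2
  plus := fun _ _ _ _ hm _ _ hna h2 => H522.RealOrth.realMove_plus hm hna h2
  minus := fun _ _ _ _ hm a b hab _ _ hna h2 => H522.RealOrth.realMove_minus hm a b hab hna h2

theorem realMoveAll : Red.RealMoveAll.{u} := fun S _ _ _ hna =>
  RMMain.known_of orthRows S hna Cfsg.Agent.S0000.result

end Cfsg.Agent.H531.RMAll
end
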