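import Cfsg.Agent.H531.ClassIndex
import Cfsg.Agent.H395.Jordan
import Cfsg.Agent.S0205
import Cfsg.Agent.Lib.MinNormalNonabelian
import Cfsg.Agent.H531.FMove_m3
import Cfsg.Agent.S4170
import Cfsg.Agent.H532.Thr.Aut
import Cfsg.Agent.S0144
import Cfsg.Agent.FastGrp
import Cfsg.Agent.Prune
set_option linter.all false

section
prune_inst 0x7ffcfefbaff8bddeffff7ffffffddffffdfcffffffdffbfbfffdfbffffff6b6ffbe7fbaffffcd8ffdef7e3b634f87b53fbfece7faf6bdd7ffffd5ff45ffbfd9f9f6fbfad51d7b83e1ffe6ffffbf37fffffffffffffffffffffffffffffffffffffffffbfffff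

-- part: H531/Red
section
prune_inst 0x2010040070221000000000000000002010000002004000000040000000090041004400003260021001001c30200a004013080409422000002a000a0040240609000020c28008000001000000c800000000000000000000000000000000000000000400000
set_option linter.all false
open scoped Cfsg.Agent.FastGrp

-- part: H531/Sizes
section
/-!
# Class sizes and Sylow subgroups

`cs x` is the size of the conjugacy class of `x`.

* `not_dvd_iff` : `r ∤ cs x` iff `x` centralises a Sylow `r`-subgroup;
* `le_center` : if no class size is divisible by `r`, the Sylow `r`-subgroups are central;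
* `isSolvable_of_two` : `N(T) ≤ C(T)` for a Sylow 2-subgroup `T` implies solvability;
* `exists_two_dvd` : a nonsolvable group has a class of even size.
-/

set_option autoImplicit false

namespace Cfsg.Agent.H531.Sizes

open Cfsg.Agent.H531.TwoPrimes Cfsg.Agent.H531.ClassIndex Subgroup

variable {G : Type*} [Group G]

/-- The size of the conjugacy class of `x`. -/
noncomputable def cs (x : G) : ℕ := (Subgroup.centralizer ({x} : Set G)).index

theorem le_centralizer_singleton {H : Subgroup G} {x : G} :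
    H ≤ Subgroup.centralizer ({x} : Set G) ↔ ∀ y ∈ H, Commute y x := by
  constructor
  · intro h y hy
    exact Subgroup.mem_centralizer_singleton_iff.1 (h hy)
  · intro h y hy
    exact Subgroup.mem_centralizer_singleton_iff.2 (h y hy)

theorem not_dvd_index_of_sylow_le [Finite G] {r : ℕ} [Fact r.Prime] (R : Sylow r G) {C : Subgroup G}
    (h : (R : Subgroup G) ≤ C) : ¬ r ∣ C.index := by
  intro hd
  exact R.not_dvd_index (hd.trans (Subgroup.index_dvd_of_le h))

theorem not_dvd_iff [Finite G] {r : ℕ} [Fact r.Prime] (x : G) :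
    ¬ r ∣ cs x ↔ ∃ R : Sylow r G, ∀ y ∈ R, Commute y x := by
  constructor
  · intro h
    obtain ⟨R, hR⟩ := exists_sylow_le h
    exact ⟨R, le_centralizer_singleton.1 hR⟩
  · rintro ⟨R, hR⟩
    exact not_dvd_index_of_sylow_le R (le_centralizer_singleton.2 hR)

/-- If no class size is divisible by `r`, Sylow `r`-subgroups are central. -/
theorem le_center [Finite G] {r : ℕ} [Fact r.Prime] (h : ∀ x : G, ¬ r ∣ cs x) (R : Sylow r G) :
    (R : Subgroup G) ≤ Subgroup.center G := by
  have h1 : Subgroup.centralizer ((R : Subgroup G) : Set G) = ⊤ := by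
    by_contra hne
    obtain ⟨x, hx⟩ := Cfsg.Agent.H395.Jordan.exists_not_conj_mem hne
    obtain ⟨g, hg⟩ := conj_mem_centralizer R (h x)
    apply hx g⁻¹
    rwa [inv_inv]
  intro y hy
  rw [Subgroup.mem_center_iff]
  intro g
  have hg : g ∈ Subgroup.centralizer ((R : Subgroup G) : Set G) := by rw [h1]; trivial
  exact (Subgroup.mem_centralizer_iff.1 hg y hy).symm

theorem not_dvd_of_le_center [Finite G] {r : ℕ} [Fact r.Prime] (R : Sylow r G)
    (h : (R : Subgroup G) ≤ Subgroup.center G) (x : G) : ¬ r ∣ cs x :=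
  (not_dvd_iff x).2 ⟨R, fun _ hy => (Subgroup.mem_center_iff.1 (h hy) x).symm⟩

theorem normalizer_le_centralizer_of_le_center {R : Subgroup G} (h : R ≤ Subgroup.center G) :
    Subgroup.normalizer (R : Set G) ≤ Subgroup.centralizer (R : Set G) := by
  intro g _
  rw [Subgroup.mem_centralizer_iff]
  intro y hy
  exact (Subgroup.mem_center_iff.1 (h hy) g).symm

/-- A group with a Sylow 2-subgroup `T` such that `N(T) ≤ C(T)` is solvable (Burnside, Feit-Thompson). -/
theorem isSolvable_of_two [Finite G] (T : Sylow 2 G)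
    (h : Subgroup.normalizer ((T : Subgroup G) : Set G) ≤ Subgroup.centralizer ((T : Subgroup G) : Set G)) :
    Group.IsSolvable G := by
  have h1 := MonoidHom.not_dvd_card_ker_transferSylow T h
  have h2 : Odd (Nat.card (MonoidHom.transferSylow T h).ker) := by
    rw [← Nat.not_even_iff_odd, even_iff_two_dvd]
    exact h1
  have h3 : Group.IsSolvable (MonoidHom.transferSylow T h).ker := Cfsg.Agent.S0205.result h2
  have h4 : Group.IsNilpotent T := T.isPGroup'.isNilpotent
  exact Group.isSolvable_of_ker_le_range (MonoidHom.transferSylow T h).ker.subtype (MonoidHom.transferSylow T h)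
    (by rw [Subgroup.range_subtype])

/-- A nonsolvable group has a class of even size. -/
theorem exists_two_dvd [Finite G] (h : ¬ Group.IsSolvable G) : ∃ x : G, 2 ∣ cs x := by
  by_contra hcon
  push Not at hcon
  obtain ⟨T⟩ : Nonempty (Sylow 2 G) := inferInstance
  exact h (isSolvable_of_two T (normalizer_le_centralizer_of_le_center (le_center hcon T)))

theorem cs_dvd_of_surjective {H : Type*} [Group H] {f : G →* H} (hf : Function.Surjective f) (x : G) :
    cs (f x) ∣ cs x := surj_dvd hf x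

theorem cs_dvd_of_normal [Finite G] (M : Subgroup G) [M.Normal] (x : M) : cs x ∣ cs (x : G) := normal_dvd M x

/-- `|N : C_N(y)|` is even for some `y` in the nonsolvable subgroup `N`. -/
theorem exists_two_dvd_relIndex [Finite G] (N : Subgroup G) (h : ¬ Group.IsSolvable N) :
    ∃ y ∈ N, 2 ∣ (Subgroup.centralizer ({y} : Set G)).relIndex N := by
  obtain ⟨y, hy⟩ := exists_two_dvd h
  refine ⟨y, y.2, ?_⟩
  rw [Subgroup.relIndex, subgroupOf_centralizer]
  exact hy

end Cfsg.Agent.H531.Sizes
end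

-- part: H531/Red
section
/-!
# Nonsolvable groups with no class size divisible by `2p`: the reduction

`Bad p G` : `G` is not solvable, `p` divides some class size and no class size is divisible by `2` and by `p`.

* `Bad.norm_le` : `N(P) ≤ C(P)` for Sylow `p`-subgroups `P`;
* `Bad.comm_mem` : `[G, P] ≤ N` for a normal subgroup `N` such that `G/N` is nonsolvable and not `Bad`;
* `Bad.not_le_centralizer` : `P` does not centralise a nonsolvable normal subgroup;
* `Bad.false_of_abelian` : not all minimal normal subgroups are abelian, in a minimal counterexample.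
-/

set_option autoImplicit false

namespace Cfsg.Agent.H531.Red

open Cfsg.Agent.H531.TwoPrimes Cfsg.Agent.H531.ClassIndex Cfsg.Agent.H531.Sizes Subgroup

open scoped Pointwise

universe u

/-- `G` is not solvable, `p` divides some class size, no class size is divisible by `2` and by `p`. -/
structure Bad (p : ℕ) (G : Type u) [Group G] : Prop where
  ns : ¬ Group.IsSolvable G
  vtx : ∃ x : G, p ∣ cs x
  no : ∀ x : G, ¬ (2 ∣ cs x ∧ p ∣ cs x)

variable {G : Type u} [Group G] [Finite G] {p : ℕ} [Fact p.Prime]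

theorem Bad.norm_le (B : Bad p G) (P : Sylow p G) :
    Subgroup.normalizer ((P : Subgroup G) : Set G) ≤ Subgroup.centralizer ((P : Subgroup G) : Set G) := by
  obtain ⟨T⟩ : Nonempty (Sylow 2 G) := inferInstance
  rcases normalizer_le_or P T (fun x => by
    by_contra hc
    push Not at hc
    exact B.no x ⟨hc.2, hc.1⟩) with h | h
  · exact h
  · exact absurd (isSolvable_of_two T h) B.ns

theorem Bad.not_le_center (B : Bad p G) (P : Sylow p G) : ¬ (P : Subgroup G) ≤ Subgroup.center G := by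
  intro h
  obtain ⟨x, hx⟩ := B.vtx
  exact not_dvd_of_le_center P h x hx

theorem Bad.comm (B : Bad p G) (P : Sylow p G) {x y : G} (hx : x ∈ P) (hy : y ∈ P) : x * y = y * x := by
  have h1 : x ∈ Subgroup.centralizer ((P : Subgroup G) : Set G) := B.norm_le P (Subgroup.le_normalizer hx)
  exact (Subgroup.mem_centralizer_iff.1 h1 y hy).symm

theorem Bad.le_centralizer (B : Bad p G) (P : Sylow p G) :
    (P : Subgroup G) ≤ Subgroup.centralizer ((P : Subgroup G) : Set G) :=
  Subgroup.le_normalizer.trans (B.norm_le P)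

/-- In a quotient in which `p` is not a vertex, `P` is central. -/
theorem Bad.comm_mem (B : Bad p G) (P : Sylow p G) (N : Subgroup G) [N.Normal] (hns : ¬ Group.IsSolvable (G ⧸ N))
    (hN : ¬ Bad p (G ⧸ N)) (g : G) {y : G} (hy : y ∈ P) : g * y * g⁻¹ * y⁻¹ ∈ N := by
  have h1 : ∀ x : G ⧸ N, ¬ p ∣ cs x := by
    intro x hx
    apply hN
    refine ⟨hns, ⟨x, hx⟩, ?_⟩
    intro z
    obtain ⟨z, rfl⟩ := QuotientGroup.mk'_surjective N z
    rintro ⟨h2, h3⟩
    have h4 := cs_dvd_of_surjective (QuotientGroup.mk'_surjective N) z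
    exact B.no z ⟨h2.trans h4, h3.trans h4⟩
  have h2 : IsPGroup p ((P : Subgroup G).map (QuotientGroup.mk' N)) := P.isPGroup'.map _
  obtain ⟨R, hR⟩ := h2.exists_le_sylow
  have h3 : (QuotientGroup.mk' N) y ∈ Subgroup.center (G ⧸ N) :=
    le_center h1 R (hR ⟨y, hy, rfl⟩)
  have h4 := Subgroup.mem_center_iff.1 h3 (QuotientGroup.mk' N g)
  rw [← QuotientGroup.ker_mk' N, MonoidHom.mem_ker]
  simp only [map_mul, map_inv]
  rw [h4]
  group

/-- A Sylow `p`-subgroup does not centralise a nonsolvable normal subgroup. -/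
theorem Bad.not_le_centralizer (B : Bad p G) (P : Sylow p G) (N : Subgroup G) [N.Normal]
    (hN : ¬ Group.IsSolvable N) : ¬ (P : Subgroup G) ≤ Subgroup.centralizer (N : Set G) := by
  intro hP
  set C : Subgroup G := Subgroup.centralizer (N : Set G) with hC
  have hCn : C.Normal := inferInstance
  have hall : ∀ R : Sylow p G, (R : Subgroup G) ≤ C := by
    intro R
    obtain ⟨g, hg⟩ := MulAction.exists_smul_eq G P R
    rw [← hg]
    intro y hy
    have hy' : y ∈ MulAut.conj g • (P : Subgroup G) := hy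
    rw [Subgroup.mem_pointwise_smul_iff_inv_smul_mem] at hy'
    have h1 := hCn.conj_mem _ (hP hy') g
    simpa [MulAut.smul_def, MulAut.conj_inv_apply, mul_assoc] using h1
  have hx : ∃ x : C, p ∣ cs x := by
    by_contra hcon
    push Not at hcon
    have h1 := le_center hcon (P.subtype hP)
    have h2 : ((P.subtype hP : Sylow p C) : Subgroup C).Normal := by
      constructor
      intro n hn g
      have := Subgroup.mem_center_iff.1 (h1 hn) g
      rwa [this, mul_inv_cancel_right]
    have h3 : Subsingleton (Sylow p C) := Sylow.unique_of_normal _ h2 |>.instSubsingleton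
    apply B.not_le_center P
    have h4 : (P : Subgroup G).Normal := by
      constructor
      intro n hn g
      obtain ⟨R, hR⟩ : ∃ R : Sylow p G, (R : Subgroup G) = MulAut.conj g • (P : Subgroup G) :=
        ⟨g • P, rfl⟩
      have h5 : R.subtype (hall R) = P.subtype hP := Subsingleton.elim _ _
      have h6 : g * n * g⁻¹ ∈ R := by
        show g * n * g⁻¹ ∈ (R : Subgroup G)
        rw [hR]
        exact Subgroup.smul_mem_pointwise_smul _ _ _ hn
      have h7 : (⟨g * n * g⁻¹, hall R h6⟩ : C) ∈ R.subtype (hall R) := h6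
      rw [h5] at h7
      exact h7
    have h5 : Subgroup.normalizer ((P : Subgroup G) : Set G) = ⊤ := Subgroup.normalizer_eq_top_iff.2 h4
    have h6 := B.norm_le P
    rw [h5] at h6
    intro y hy
    rw [Subgroup.mem_center_iff]
    intro g
    exact (Subgroup.mem_centralizer_iff.1 (h6 (Subgroup.mem_top g)) y hy).symm
  obtain ⟨x, hx⟩ := hx
  obtain ⟨y, hyN, hy⟩ := exists_two_dvd_relIndex N hN
  have hxN : ∀ n ∈ N, Commute (x : G) n := fun n hn => (Subgroup.mem_centralizer_iff.1 x.2 n hn).symm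
  apply B.no ((x : G) * y)
  constructor
  · refine dvd_trans ?_ (relIndex_dvd_index (Subgroup.centralizer ({(x : G) * y} : Set G)) N)
    rw [← Subgroup.inf_relIndex_right]
    have h1 : Subgroup.centralizer ({(x : G) * y} : Set G) ⊓ N = Subgroup.centralizer ({y} : Set G) ⊓ N := by
      ext n
      simp only [Subgroup.mem_inf, Subgroup.mem_centralizer_singleton_iff]
      constructor
      · rintro ⟨h, hn⟩
        refine ⟨?_, hn⟩
        have h2 := (hxN n hn).eq
        have h3 : (x : G) * (n * y) = (x : G) * (y * n) := by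
          rw [← mul_assoc, h2, mul_assoc, h, mul_assoc]
        exact mul_left_cancel h3
      · rintro ⟨h, hn⟩
        refine ⟨?_, hn⟩
        have h2 := (hxN n hn).eq
        rw [← mul_assoc, ← h2, mul_assoc, h, mul_assoc]
    rw [h1, Subgroup.inf_relIndex_right]
    exact hy
  · by_contra hcon
    obtain ⟨R, hR⟩ := (not_dvd_iff _).1 hcon
    have h1 : ¬ p ∣ cs x := by
      rw [not_dvd_iff]
      refine ⟨R.subtype (hall R), ?_⟩
      rintro ⟨w, hwC⟩ hw
      have hw' : w ∈ R := hw
      have h2 := (hR w hw').eq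
      have h3 : w * y = y * w := (Subgroup.mem_centralizer_iff.1 hwC y hyN).symm
      apply Subtype.ext
      show w * (x : G) = (x : G) * w
      have h4 : w * (x : G) * y = (x : G) * w * y := by
        rw [mul_assoc, h2, mul_assoc, mul_assoc, h3]
      exact mul_right_cancel h4
    exact h1 hx

end Cfsg.Agent.H531.Red
end
end

-- part: H531/RedNon
section
prune_inst 0x10440050001000000000000000002000000000000000000000000000090041800100003020020001008830000a004002180009400000000a00020040040000000022c00040000001000000c800000000000000000000000000000000000000000000000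
set_option linter.all false
open scoped Cfsg.Agent.FastGrp

/-!
# The nonabelian case of the reduction

`Bad.false_of_nonabelian` : a group `G` with `Bad p G` has no nonabelian minimal normal subgroup.
-/

set_option autoImplicit false

namespace Cfsg.Agent.H531.Red

open Cfsg.Agent.H531.TwoPrimes Cfsg.Agent.H531.ClassIndex Cfsg.Agent.H531.Sizes Subgroup
open Cfsg.Agent.Lib.MinNormalNonabelian Cfsg.Agent.Lib.MinNormal

open scoped Pointwise

universe u

variable {G : Type u} [Group G]

/-- Prescribing the action on pairwise commuting subgroups. -/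
theorem exists_prod {ι : Type*} (T : ι → Subgroup G)
    (hcomm : ∀ i j, i ≠ j → ∀ x ∈ T i, ∀ y ∈ T j, Commute x y) (f : ι → G) (hf : ∀ i, f i ∈ T i) (F : Finset ι) :
    ∃ x : G, (∀ i ∈ F, ∀ s ∈ T i, Commute ((f i)⁻¹ * x) s) ∧ (∀ i ∉ F, ∀ s ∈ T i, Commute x s) := by
  classical
  induction F using Finset.induction_on with
  | empty => exact ⟨1, by simp, fun _ _ s _ => Commute.one_left s⟩
  | insert j F hj ih =>
    obtain ⟨x, h1, h2⟩ := ih
    refine ⟨f j * x, ?_, ?_⟩
    · intro i hi s hs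
      rcases Finset.mem_insert.1 hi with rfl | hi
      · rw [inv_mul_cancel_left]
        exact h2 i hj s hs
      · have hij : j ≠ i := by
          rintro rfl
          exact hj hi
        have h3 : (f i)⁻¹ * (f j * x) = f j * ((f i)⁻¹ * x) := by
          have := ((hcomm j i hij (f j) (hf j) (f i) (hf i)).inv_right).eq
          rw [← mul_assoc, ← this, mul_assoc]
        rw [h3]
        exact (hcomm j i hij (f j) (hf j) s hs).mul_left (h1 i hi s hs)
    · intro i hi s hs
      rw [Finset.mem_insert, not_or] at hi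
      exact (hcomm j i (fun h => hi.1 h.symm) (f j) (hf j) s hs).mul_left (h2 i hi.2 s hs)

theorem relIndex_dvd_relIndex [Finite G] (C : Subgroup G) {T N : Subgroup G} (hTN : T ≤ N)
    (hn : N ≤ Subgroup.normalizer (T : Set G)) : C.relIndex T ∣ C.relIndex N := by
  have h1 : (T.subgroupOf N).Normal := Subgroup.normal_subgroupOf_of_le_normalizer hn
  have h2 := relIndex_dvd_index (C.subgroupOf N) (T.subgroupOf N)
  rwa [Subgroup.relIndex_subgroupOf hTN] at h2

theorem relIndex_centralizer_conj (g a : G) (T : Subgroup G) :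
    (Subgroup.centralizer ({g * a * g⁻¹} : Set G)).relIndex (T.map (MulAut.conj g).toMonoidHom) =
      (Subgroup.centralizer ({a} : Set G)).relIndex T := by
  have h1 : Subgroup.centralizer ({g * a * g⁻¹} : Set G) =
      (Subgroup.centralizer ({a} : Set G)).map (MulAut.conj g).toMonoidHom := by
    ext y
    rw [Subgroup.mem_centralizer_singleton_iff]
    constructor
    · intro h
      refine ⟨g⁻¹ * y * g, ?_, ?_⟩
      · show g⁻¹ * y * g ∈ Subgroup.centralizer ({a} : Set G)
        rw [Subgroup.mem_centralizer_singleton_iff]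
        calc g⁻¹ * y * g * a = g⁻¹ * (y * (g * a * g⁻¹)) * g := by group
          _ = g⁻¹ * (g * a * g⁻¹ * y) * g := by rw [h]
          _ = a * (g⁻¹ * y * g) := by group
      · show g * (g⁻¹ * y * g) * g⁻¹ = y
        group
    · rintro ⟨z, hz, rfl⟩
      have hz' := Subgroup.mem_centralizer_singleton_iff.1 hz
      show g * z * g⁻¹ * (g * a * g⁻¹) = g * a * g⁻¹ * (g * z * g⁻¹)
      calc g * z * g⁻¹ * (g * a * g⁻¹) = g * (z * a) * g⁻¹ := by group
        _ = g * (a * z) * g⁻¹ := by rw [hz']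
        _ = g * a * g⁻¹ * (g * z * g⁻¹) := by group
  rw [h1, Subgroup.relIndex_map_map_of_injective _ _ (MulAut.conj g).injective]

/-- The action on the components. -/
@[reducible] def act (N : Subgroup G) [N.Normal] : MulAction G (minSet N) where
  smul g T := ⟨T.1.map (MulAut.conj g).toMonoidHom, map_conj_mem_minSet T.2 g⟩
  one_smul _ := Subtype.ext (map_conj_one _)
  mul_smul g h _ := Subtype.ext (map_conj_map_conj g h _).symm

variable [Finite G] {p : ℕ} [Fact p.Prime]

/-- A `p`-element normalising all components. -/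
theorem Bad.false_of_normalizes (B : Bad p G) {T : Subgroup G} (hpT : ¬ p ∣ Nat.card T)
    (hRM : RealMove T) {g : G} {k : ℕ} (hgk : g ^ p ^ k = 1) (hg : g ∈ Subgroup.normalizer (T : Set G))
    (hgc : g ∉ Subgroup.centralizer (T : Set G)) : False := by
  classical
  have hex : ∃ j, g ^ p ^ j ∈ Subgroup.centralizer (T : Set G) := ⟨k, by rw [hgk]; exact one_mem _⟩
  set j := Nat.find hex with hj
  have h1 : g ^ p ^ j ∈ Subgroup.centralizer (T : Set G) := Nat.find_spec hex
  have hj0 : j ≠ 0 := by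
    intro h0
    rw [h0, pow_zero, pow_one] at h1
    exact hgc h1
  obtain ⟨i, hi⟩ := Nat.exists_eq_succ_of_ne_zero hj0
  set h : G := g ^ p ^ i with hh
  have h2 : h ∉ Subgroup.centralizer (T : Set G) := Nat.find_min hex (by omega)
  have h3 : h ^ p ∈ Subgroup.centralizer (T : Set G) := by
    rw [hh, ← pow_mul, ← pow_succ]
    rw [hi] at h1
    exact h1
  have h4 : h ∈ Subgroup.normalizer (T : Set G) := Subgroup.pow_mem _ hg _
  have h5 : h ^ p ^ k = 1 := by
    rw [hh, ← pow_mul, mul_comm, pow_mul, hgk, one_pow]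
  set α : MulAut T := T.normalizerMonoidHom ⟨h, h4⟩ with hα
  have hker : ∀ y : Subgroup.normalizer (T : Set G), T.normalizerMonoidHom y = 1 ↔
      (y : G) ∈ Subgroup.centralizer (T : Set G) := by
    intro y
    rw [← MonoidHom.mem_ker, Subgroup.normalizerMonoidHom_ker, Subgroup.mem_subgroupOf]
  have hαp : α ^ p = 1 := by
    rw [hα, ← map_pow, hker]
    exact h3
  have hα1 : α ≠ 1 := by
    intro hc
    exact h2 ((hker _).1 hc)
  obtain ⟨x, t, hx1, hx2, hx3⟩ := hRM p α (Fact.out) hpT hαp hα1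
  have hαx : ((α x : T) : G) = h * x * h⁻¹ := rfl
  have hne : h * (x : G) * h⁻¹ ≠ x := by
    intro hc
    exact hx2 (Subtype.ext hc)
  have hmem : h * (x : G) * h⁻¹ ∈ Subgroup.zpowers (x : G) := by
    obtain ⟨m, hm⟩ := Subgroup.mem_zpowers_iff.1 hx1
    refine Subgroup.mem_zpowers_iff.2 ⟨m, ?_⟩
    rw [← hαx, ← hm]
    rfl
  have hinv : (t : G) * x * (t : G)⁻¹ = (x : G)⁻¹ := congrArg Subtype.val hx3
  have hne2 : (x : G)⁻¹ ≠ x := by
    intro hc
    have hsq : (x : G) ^ 2 = 1 := by
      rw [sq]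
      nth_rewrite 1 [← hc]
      exact inv_mul_cancel _
    obtain ⟨m, hm⟩ := Subgroup.mem_zpowers_iff.1 hmem
    rcases Int.even_or_odd m with ⟨r, hr⟩ | ⟨r, hr⟩
    · have h6 : (x : G) ^ m = 1 := by
        rw [hr, ← two_mul, zpow_mul]
        have : (x : G) ^ (2 : ℤ) = 1 := by exact_mod_cast hsq
        rw [this, one_zpow]
      rw [h6] at hm
      have h7 : (x : G) = 1 := by
        have : (x : G) = h⁻¹ * (h * x * h⁻¹) * h := by group
        rw [this, ← hm]; group
      apply hne
      rw [h7]; group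
    · have h6 : (x : G) ^ m = x := by
        rw [hr, zpow_add, zpow_mul, zpow_one]
        have : (x : G) ^ (2 : ℤ) = 1 := by exact_mod_cast hsq
        rw [this, one_zpow, one_mul]
      rw [h6] at hm
      exact hne hm.symm
  exact B.no (x : G) ⟨two_dvd_of_inverts hinv hne2, prime_dvd_of_normalizes Fact.out h5 hmem hne⟩

/-- A `p`-element moving a component. -/
theorem Bad.false_of_moves (B : Bad p G) (P : Sylow p G) (N : Subgroup G) [N.Normal]
    (hindep : ∀ S ∈ minSet N, ∀ T ∈ minSet N, S ≠ T → ∀ x ∈ S, ∀ y ∈ T, Commute x y)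
    (hcen : ∀ T ∈ minSet N, ∀ z ∈ T, (∀ t ∈ T, Commute z t) → z = 1)
    (hconj : ∀ S ∈ minSet N, ∀ T ∈ minSet N, ∃ g : G, T = S.map (MulAut.conj g).toMonoidHom)
    (hns : ∀ T ∈ minSet N, ¬ Group.IsSolvable T)
    (hmove : ∃ g ∈ P, ∃ T ∈ minSet N, T.map (MulAut.conj g).toMonoidHom ≠ T) : False := by
  classical
  let _ := act N
  have hfin : Finite (minSet N) := inferInstance
  have hsmul : ∀ (g : G) (T : minSet N), ((g • T : minSet N) : Subgroup G) = T.1.map (MulAut.conj g).toMonoidHom :=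
    fun _ _ => rfl
  obtain ⟨Δ₁, Δ₂, hΔ₁, hΔ₂, hdis, hind⟩ := S4170.general (Ω := minSet N) p P (by
    obtain ⟨g, hg, T, hT, hne⟩ := hmove
    exact ⟨g, hg, ⟨T, hT⟩, fun h => hne (congrArg Subtype.val h)⟩)
  obtain ⟨T₀, hT₀⟩ := hΔ₁
  -- elements of `T₀`
  obtain ⟨a, haT, ha⟩ := exists_two_dvd_relIndex T₀.1 (hns T₀ T₀.2)
  have ha1 : orderOf a ≠ 1 := by
    intro h
    rw [orderOf_eq_one_iff] at h
    subst h
    have h1 : Subgroup.centralizer ({(1 : G)} : Set G) = ⊤ := by
      rw [eq_top_iff]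
      intro y _
      rw [Subgroup.mem_centralizer_singleton_iff, mul_one, one_mul]
    rw [h1, Subgroup.relIndex_top_left] at ha
    omega
  obtain ⟨b, hbT, hb1, hba⟩ : ∃ b ∈ T₀.1, orderOf b ≠ 1 ∧ orderOf b ≠ orderOf a := by
    by_contra hcon
    push Not at hcon
    have hall : ∀ r : ℕ, r.Prime → r ∣ Nat.card T₀.1 → r = orderOf a := by
      intro r hr hrd
      have : Fact r.Prime := ⟨hr⟩
      obtain ⟨b, hb⟩ := exists_prime_orderOf_dvd_card' r hrd
      have h1 : orderOf (b : G) = r := by rw [Subgroup.orderOf_coe, hb]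
      have h2 := hcon b b.2 (by rw [h1]; exact hr.one_lt.ne')
      rw [← h1, h2]
    have hcard : Nat.card T₀.1 ≠ 1 := by
      intro h
      apply hns T₀ T₀.2
      have : Subsingleton T₀.1 := (Nat.card_eq_one_iff_unique.1 h).1
      infer_instance
    obtain ⟨r, hr, hrd⟩ := Nat.exists_prime_and_dvd hcard
    have h3 := hall r hr hrd
    have h4 : Nat.card T₀.1 = r ^ (Nat.card T₀.1).primeFactorsList.length :=
      Nat.eq_prime_pow_of_unique_prime_dvd Nat.card_pos.ne' (fun {d} hd hdd => (hall d hd hdd).trans h3.symm)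
    have : Fact r.Prime := ⟨hr⟩
    have h5 : IsPGroup r T₀.1 := IsPGroup.of_card h4
    have h6 : Group.IsNilpotent T₀.1 := h5.isNilpotent
    exact hns T₀ T₀.2 inferInstance
  -- conjugates
  choose! c hc using fun (T : minSet N) => hconj T₀ T₀.2 T T.2
  let f : minSet N → G := fun T => if T ∈ Δ₁ then c T * a * (c T)⁻¹ else if T ∈ Δ₂ then c T * b * (c T)⁻¹ else 1
  have hconjmem : ∀ (T : minSet N), ∀ y ∈ T₀.1, c T * y * (c T)⁻¹ ∈ T.1 := by
    intro T y hy
    rw [hc T]
    exact ⟨y, hy, rfl⟩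
  have hf : ∀ T : minSet N, f T ∈ T.1 := by
    intro T
    show (if T ∈ Δ₁ then c T * a * (c T)⁻¹ else if T ∈ Δ₂ then c T * b * (c T)⁻¹ else 1) ∈ T.1
    split_ifs
    · exact hconjmem T a haT
    · exact hconjmem T b hbT
    · exact one_mem _
  have hordc : ∀ (g y : G), orderOf (g * y * g⁻¹) = orderOf y := fun g y =>
    orderOf_injective (MulAut.conj g).toMonoidHom (MulAut.conj g).injective y
  have hf1 : ∀ T : minSet N, orderOf (f T) = orderOf a ↔ T ∈ Δ₁ := by
    intro T
    show orderOf (if T ∈ Δ₁ then c T * a * (c T)⁻¹ else if T ∈ Δ₂ then c T * b * (c T)⁻¹ else 1) = orderOf a ↔ _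
    split_ifs with h1 h2
    · rw [hordc]
      exact ⟨fun _ => h1, fun _ => rfl⟩
    · rw [hordc]
      exact ⟨fun h => absurd h hba, fun h => absurd h h1⟩
    · rw [orderOf_one]
      exact ⟨fun h => absurd h.symm ha1, fun h => absurd h h1⟩
  have hf2 : ∀ T : minSet N, orderOf (f T) = orderOf b ↔ T ∈ Δ₂ := by
    intro T
    show orderOf (if T ∈ Δ₁ then c T * a * (c T)⁻¹ else if T ∈ Δ₂ then c T * b * (c T)⁻¹ else 1) = orderOf b ↔ _
    split_ifs with h1 h2
    · rw [hordc]
      exact ⟨fun h => absurd h.symm hba, fun h => absurd h (Set.disjoint_left.1 hdis h1)⟩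
    · rw [hordc]
      exact ⟨fun _ => h2, fun _ => rfl⟩
    · rw [orderOf_one]
      exact ⟨fun h => absurd h.symm hb1, fun h => absurd h h2⟩
  let _ : Fintype (minSet N) := Fintype.ofFinite _
  obtain ⟨x, hx, -⟩ := exists_prod (fun T : minSet N => T.1)
    (fun S T hST => hindep S S.2 T T.2 (fun h => hST (Subtype.ext h))) f hf Finset.univ
  -- powers of `x` on the components
  have hpow : ∀ (T : minSet N) (k : ℕ), (∀ s ∈ T.1, Commute (x ^ k) s) ↔ orderOf (f T) ∣ k := by
    intro T k
    have hz := hx T (Finset.mem_univ _)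
    set z : G := (f T)⁻¹ * x with hzdef
    have hxz : x = f T * z := by rw [hzdef]; group
    have hcz : Commute (f T) z := (hz _ (hf T)).symm
    have hxk : x ^ k = f T ^ k * z ^ k := by rw [hxz, hcz.mul_pow]
    constructor
    · intro h
      apply orderOf_dvd_of_pow_eq_one
      apply hcen T T.2 _ (pow_mem (hf T) k)
      intro s hs
      have h1 := h s hs
      rw [hxk] at h1
      have h2 : Commute (z ^ k) s := (hz s hs).pow_left k
      have h3 := h1.mul_left h2.inv_left
      rwa [mul_inv_cancel_right] at h3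
    · intro h s hs
      rw [hxk, orderOf_dvd_iff_pow_eq_one.1 h, one_mul]
      exact (hz s hs).pow_left k
  have hinvord : ∀ (g : G), Commute g x → ∀ T : minSet N, orderOf (f (g • T)) = orderOf (f T) := by
    intro g hg T
    have key : ∀ k : ℕ, (∀ s ∈ (g • T).1, Commute (x ^ k) s) ↔ (∀ s ∈ T.1, Commute (x ^ k) s) := by
      intro k
      have hgk : g * x ^ k = x ^ k * g := (hg.pow_right k).eq
      constructor
      · intro h s hs
        have h1 := h (g * s * g⁻¹) (by rw [hsmul]; exact ⟨s, hs, rfl⟩)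
        have h2 : x ^ k * (g * s * g⁻¹) = g * (x ^ k * s) * g⁻¹ := by
          rw [← mul_assoc, ← mul_assoc, ← hgk]; simp only [mul_assoc]
        have h3 : g * s * g⁻¹ * x ^ k = g * (s * x ^ k) * g⁻¹ := by
          have : g⁻¹ * x ^ k = x ^ k * g⁻¹ := ((hg.pow_right k).inv_left).eq
          rw [mul_assoc, this]; simp only [mul_assoc]
        have h4 : g * (x ^ k * s) * g⁻¹ = g * (s * x ^ k) * g⁻¹ := by rw [← h2, ← h3]; exact h1
        exact mul_left_cancel (mul_right_cancel h4)
      · intro h s hs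
        rw [hsmul] at hs
        obtain ⟨s, hs, rfl⟩ := hs
        show x ^ k * (g * s * g⁻¹) = g * s * g⁻¹ * x ^ k
        have h1 : x ^ k * s = s * x ^ k := h s hs
        have h2 : x ^ k * (g * s * g⁻¹) = g * (x ^ k * s) * g⁻¹ := by
          rw [← mul_assoc, ← mul_assoc, ← hgk]; simp only [mul_assoc]
        have h3 : g * s * g⁻¹ * x ^ k = g * (s * x ^ k) * g⁻¹ := by
          have : g⁻¹ * x ^ k = x ^ k * g⁻¹ := ((hg.pow_right k).inv_left).eq
          rw [mul_assoc, this]; simp only [mul_assoc]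
        rw [h2, h3, h1]
    apply Nat.dvd_antisymm
    · rw [← hpow, key, hpow]
    · rw [← hpow, ← key, hpow]
  have hstab : ∀ (g : G), Commute g x → ∀ (Δ : Set (minSet N)) (n : ℕ),
      (∀ T, orderOf (f T) = n ↔ T ∈ Δ) → g ∈ MulAction.stabilizer G Δ := by
    intro g hg Δ n hΔ
    rw [MulAction.mem_stabilizer_set_iff_subset_smul_set (Set.toFinite _)]
    intro T hT
    rw [Set.mem_smul_set_iff_inv_smul_mem, ← hΔ]
    have h1 := hinvord g⁻¹ hg.inv_left T
    rw [h1, hΔ]
    exact hT
  have hle : Subgroup.centralizer ({x} : Set G) ≤ MulAction.stabilizer G Δ₁ ⊓ MulAction.stabilizer G Δ₂ := by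
    intro g hg
    have hg' : Commute g x := Subgroup.mem_centralizer_singleton_iff.1 hg
    exact ⟨hstab g hg' Δ₁ _ hf1, hstab g hg' Δ₂ _ hf2⟩
  apply B.no x
  refine ⟨?_, hind.trans (Subgroup.index_dvd_of_le hle)⟩
  -- the class size is even
  have h1 : (Subgroup.centralizer ({x} : Set G)).relIndex T₀.1 =
      (Subgroup.centralizer ({c T₀ * a * (c T₀)⁻¹} : Set G)).relIndex T₀.1 := by
    rw [← Subgroup.inf_relIndex_right, ← Subgroup.inf_relIndex_right (Subgroup.centralizer ({c T₀ * a * (c T₀)⁻¹} : Set G))]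
    congr 1
    have hfa : f T₀ = c T₀ * a * (c T₀)⁻¹ := if_pos hT₀
    have hz := hx T₀ (Finset.mem_univ _)
    rw [hfa] at hz
    ext s
    simp only [Subgroup.mem_inf, Subgroup.mem_centralizer_singleton_iff]
    constructor
    · rintro ⟨h, hs⟩
      refine ⟨?_, hs⟩
      have h2 : Commute s x := h
      have h3 := h2.mul_right (hz s hs).symm.inv_right
      have h4 : x * ((c T₀ * a * (c T₀)⁻¹)⁻¹ * x)⁻¹ = c T₀ * a * (c T₀)⁻¹ := by group
      rw [h4] at h3
      exact h3
    · rintro ⟨h, hs⟩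
      refine ⟨?_, hs⟩
      have h2 : Commute s (c T₀ * a * (c T₀)⁻¹) := h
      have h3 := h2.mul_right (hz s hs).symm
      rw [mul_inv_cancel_left] at h3
      exact h3
  have h2 : 2 ∣ (Subgroup.centralizer ({x} : Set G)).relIndex T₀.1 := by
    rw [h1]
    have h3 := relIndex_centralizer_conj (c T₀) a T₀.1
    rw [← hc T₀] at h3
    rw [h3]
    exact ha
  have hmem := T₀.2
  rw [mem_minSet] at hmem
  exact (h2.trans (relIndex_dvd_relIndex _ hmem.1 hmem.2.2.1)).trans (relIndex_dvd_index _ N)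

end Cfsg.Agent.H531.Red
end

-- part: H531/LemX
section
prune_inst 0x101005000422000000000000000000002000000000000000000000000000000000000000000000100000000000000000121004004000000000000000002006090000000200000000000000000000000000000000000000000000000000000000000400000
set_option linter.all false
open scoped Cfsg.Agent.FastGrp

/-!
# Two commuting coprime automorphisms and a nonabelian minimal invariant normal subgroup

`lemmaX` : let `a`, `b` be commuting automorphisms of `N` of prime orders `p ≠ q` prime to `|N|` and `V` a minimal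
`⟨a, b⟩`-invariant normal subgroup of `N`, nonabelian, on which `a` and `b` act nontrivially; then some `v ∈ V` has its
`N`-class fixed neither by `a` nor by `b`.
-/

set_option autoImplicit false

namespace Cfsg.Agent.H531.LemX

open Subgroup Cfsg.Agent.Lib.MinNormalNonabelian Cfsg.Agent.Lib.MinNormal Cfsg.Agent.H531.Red
open scoped Pointwise

universe u v

/-! ### Permutations -/

theorem mem_of_pow_coprime {G : Type*} [Group G] (S : Subgroup G) {g : G} {m n : ℕ} (hmn : m.Coprime n)
    (hm : g ^ m ∈ S) (hn : g ^ n ∈ S) : g ∈ S := by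
  have h1 : g = (g ^ m) ^ (Nat.gcdA m n) * (g ^ n) ^ (Nat.gcdB m n) := by
    have h2 := Nat.gcd_eq_gcd_ab m n
    rw [hmn.gcd_eq_one] at h2
    calc g = g ^ (1 : ℤ) := (zpow_one g).symm
      _ = g ^ ((m : ℤ) * Nat.gcdA m n + (n : ℤ) * Nat.gcdB m n) := by rw [← h2]; rfl
      _ = _ := by rw [zpow_add, zpow_mul, zpow_mul, zpow_natCast, zpow_natCast]
  rw [h1]
  exact S.mul_mem (S.zpow_mem hm _) (S.zpow_mem hn _)

theorem smul_eq_of_coprime {G Ω : Type*} [Group G] [MulAction G Ω] {g : G} {T : Ω} {m n : ℕ} (hmn : m.Coprime n)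
    (hm : g ^ m • T = T) (hn : g ^ n • T = T) : g • T = T :=
  mem_of_pow_coprime (MulAction.stabilizer G T) hmn hm hn

/-- an element of order `p` preserving a set of fewer than `p` points fixes them -/
theorem fix_of_small {G Ω : Type*} [Group G] [MulAction G Ω] {p : ℕ} (hp : p.Prime) {g : G} (hg : g ^ p = 1)
    (Δ : Finset Ω) (hΔ : ∀ T ∈ Δ, g • T ∈ Δ) (hc : Δ.card < p) {T : Ω} (hT : T ∈ Δ) : g • T = T := by
  have h1 : ∀ i : ℕ, g ^ i • T ∈ Δ := by
    intro i
    induction i with
    | zero => rw [pow_zero, one_smul]; exact hT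
    | succ i ih => rw [pow_succ', mul_smul]; exact hΔ _ ih
  obtain ⟨i, hi, j, hj, hij, he⟩ := Finset.exists_ne_map_eq_of_card_lt_of_maps_to
    (s := Finset.range p) (t := Δ) (by rwa [Finset.card_range]) (f := fun i => g ^ i • T) (fun i _ => h1 i)
  rw [Finset.mem_range] at hi hj
  wlog hlt : i < j generalizing i j
  · exact this j hj i hi hij.symm he.symm (by omega)
  have h2 : g ^ (j - i) • T = T := by
    have he' : g ^ i • T = g ^ j • T := he
    have h3 : g ^ j = g ^ i * g ^ (j - i) := by rw [← pow_add]; congr 1; omega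
    rw [h3, mul_smul] at he'
    exact (smul_left_cancel _ he').symm
  refine smul_eq_of_coprime (m := j - i) (n := p) ?_ h2 (by rw [hg, one_smul])
  rw [Nat.coprime_comm, Nat.Prime.coprime_iff_not_dvd hp]
  intro h
  have := Nat.le_of_dvd (by omega) h
  omega

/-- **the permutation trick** -/
theorem perm_trick {G Ω : Type*} [Group G] [MulAction G Ω] {p : ℕ} (hp : p.Prime) {a h : G} {m : ℕ}
    (hm : m.Coprime p) (hh : h ^ m = 1) (ha : a ^ p = 1) (hg : (h * a) ^ p = 1) {T₀ : Ω} (hfix : (h * a) • T₀ = T₀)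
    (hO : ∀ k : ℕ, a ^ k • T₀ ≠ T₀ → ∃ l : ℕ, (h * a) • a ^ k • T₀ = a ^ l • T₀) : a • T₀ = T₀ := by
  classical
  set g := h * a with hgdef
  let Δ : Finset Ω := ((Finset.Ico 1 p).image fun k => a ^ k • T₀).filter fun T => T ≠ T₀
  have hred : ∀ l : ℕ, a ^ l • T₀ ≠ T₀ → a ^ l • T₀ ∈ Δ := by
    intro l hl
    have h1 : a ^ l = a ^ (l % p) := by
      conv_lhs => rw [← Nat.div_add_mod l p, pow_add, pow_mul, ha, one_pow, one_mul]
    rw [Finset.mem_filter, Finset.mem_image]
    refine ⟨⟨l % p, ?_, by rw [← h1]⟩, hl⟩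
    rw [Finset.mem_Ico]
    refine ⟨?_, Nat.mod_lt _ hp.pos⟩
    by_contra h2
    have h3 : l % p = 0 := by omega
    rw [h3, pow_zero] at h1
    rw [h1, one_smul] at hl
    exact hl rfl
  have hcard : Δ.card < p := by
    have h1 : Δ.card ≤ (Finset.Ico 1 p).card := (Finset.card_filter_le _ _).trans Finset.card_image_le
    rw [Nat.card_Ico] at h1
    have := hp.one_lt
    omega
  have hΔ : ∀ T ∈ Δ, g • T ∈ Δ := by
    intro T hT
    rw [Finset.mem_filter, Finset.mem_image] at hT
    obtain ⟨⟨k, -, rfl⟩, hk⟩ := hT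
    obtain ⟨l, hl⟩ := hO k hk
    rw [hl]
    apply hred
    rw [← hl]
    intro h1
    apply hk
    exact smul_left_cancel g (h1.trans hfix.symm)
  have hall : ∀ k : ℕ, g • a ^ k • T₀ = a ^ k • T₀ := by
    intro k
    by_cases hk : a ^ k • T₀ = T₀
    · rw [hk, hfix]
    · exact fix_of_small hp hg Δ hΔ hcard (hred k hk)
  -- `h⁻¹` and `a` agree on the orbit
  have hstep : ∀ k : ℕ, (h⁻¹) ^ k • T₀ = a ^ k • T₀ := by
    intro k
    induction k with
    | zero => rw [pow_zero, pow_zero]
    | succ k ih =>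
      rw [pow_succ', mul_smul, ih, pow_succ', mul_smul]
      rw [inv_smul_eq_iff, ← mul_smul h a]
      exact (hall k).symm
  have h1 : a ^ m • T₀ = T₀ := by
    rw [← hstep, inv_pow, hh, inv_one, one_smul]
  exact smul_eq_of_coprime hm h1 (by rw [ha, one_smul])

/-- two elements acting in the same way on a cyclic group -/
theorem commute_of_agree {G : Type*} [Group G] {b h s : G} {q m : ℕ} (hqm : q.Coprime m) (hb : b ^ q = 1)
    (hh : h ^ m = 1) (hs : b * s * b⁻¹ ∈ zpowers s) (hc : Commute (h * b) s) : Commute b s := by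
  obtain ⟨k, hk⟩ := mem_zpowers_iff.1 hs
  have h1 : h⁻¹ * s * h = s ^ k := by
    have h2 : h * b * s = s * (h * b) := hc
    have h3 : h * (b * s * b⁻¹) = s * h := by
      calc h * (b * s * b⁻¹) = (h * b * s) * b⁻¹ := by group
        _ = s * (h * b) * b⁻¹ := by rw [h2]
        _ = s * h := by group
    rw [hk, eq_comm]
    rw [← hk] at h3 ⊢
    rw [mul_assoc, ← h3]; group
  have key : ∀ c : G, c * s * c⁻¹ = s ^ k → ∀ j : ℕ, c ^ j * s * (c ^ j)⁻¹ = s ^ (k ^ j) := by
    intro c hc j
    induction j with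
    | zero => simp
    | succ j ih =>
      have h4 : c ^ (j + 1) * s * (c ^ (j + 1))⁻¹ = c ^ j * (c * s * c⁻¹) * (c ^ j)⁻¹ := by
        rw [pow_succ]; group
      rw [h4, hc]
      have h5 : c ^ j * s ^ k * (c ^ j)⁻¹ = (c ^ j * s * (c ^ j)⁻¹) ^ k := (conj_zpow).symm
      rw [h5, ih, ← zpow_mul, pow_succ]
  have h6 := key b hk.symm
  have h7 := key h⁻¹ (by rw [inv_inv]; exact h1)
  -- `q u = 1 + m v`
  rcases Nat.lt_or_ge 1 m with hm | hm
  swap
  · rcases (by omega : m = 0 ∨ m = 1) with rfl | rfl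
    · rw [Nat.coprime_zero_right] at hqm
      rw [hqm, pow_one] at hb
      rw [hb]
      exact Commute.one_left s
    · rw [pow_one] at hh
      rw [hh, one_mul] at hc
      exact hc
  have hq : (∃ u w : ℕ, q * u = 1 + m * w) := by
    obtain ⟨u, -, hu⟩ := Nat.exists_mul_mod_eq_one_of_coprime hqm hm
    refine ⟨u, q * u / m, ?_⟩
    have := Nat.mod_add_div (q * u) m
    omega
  obtain ⟨u, w, huw⟩ := hq
  have h8 := h6 (q * u)
  rw [pow_mul, hb, one_pow, inv_one, one_mul, mul_one] at h8
  have h9 := h7 (1 + m * w)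
  rw [← huw, ← h8, huw, pow_add, pow_one, pow_mul, inv_pow h m, hh, inv_one, one_pow, mul_one, inv_inv, h1] at h9
  rw [h9] at hk
  show b * s = s * b
  rw [← mul_inv_eq_iff_eq_mul]
  exact hk.symm

/-! ### Prescribing coordinates -/

theorem exists_prod' {G : Type*} [Group G] {ι : Type*} (T : ι → Subgroup G) (V : Subgroup G) (hTV : ∀ i, T i ≤ V)
    (hcomm : ∀ i j, i ≠ j → ∀ x ∈ T i, ∀ y ∈ T j, Commute x y) (f : ι → G) (hf : ∀ i, f i ∈ T i) (F : Finset ι) :
    ∃ x ∈ V, (∀ i ∈ F, ∀ s ∈ T i, Commute ((f i)⁻¹ * x) s) ∧ (∀ i ∉ F, ∀ s ∈ T i, Commute x s) := by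
  classical
  induction F using Finset.induction_on with
  | empty => exact ⟨1, one_mem _, by simp only [_root_.Finset.notMem_empty, _root_.mul_one, _root_.Commute.inv_left_iff, _root_.IsEmpty.forall_iff, _root_.implies_true], fun _ _ s _ => Commute.one_left s⟩
  | insert j F hj ih =>
    obtain ⟨x, hxV, h1, h2⟩ := ih
    refine ⟨f j * x, mul_mem (hTV j (hf j)) hxV, ?_, ?_⟩
    · intro i hi s hs
      rcases Finset.mem_insert.1 hi with rfl | hi
      · rw [inv_mul_cancel_left]
        exact h2 i hj s hs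
      · have hij : j ≠ i := by
          rintro rfl
          exact hj hi
        have h3 : (f i)⁻¹ * (f j * x) = f j * ((f i)⁻¹ * x) := by
          have := ((hcomm j i hij (f j) (hf j) (f i) (hf i)).inv_right).eq
          rw [← mul_assoc, ← this, mul_assoc]
        rw [h3]
        exact (hcomm j i hij (f j) (hf j) s hs).mul_left (h1 i hi s hs)
    · intro i hi s hs
      rw [Finset.mem_insert, not_or] at hi
      exact (hcomm j i (fun h => hi.1 h.symm) (f j) (hf j) s hs).mul_left (h2 i hi.2 s hs)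

variable {G : Type u} [Group G]

attribute [local instance] act

theorem smul_coe (V : Subgroup G) [V.Normal] (g : G) (T : minSet V) :
    ((g • T : minSet V) : Subgroup G) = T.1.map (MulAut.conj g).toMonoidHom := rfl

/-- the structure of a nonabelian minimal normal subgroup -/
structure Str (V : Subgroup G) [V.Normal] : Prop where
  nonempty : (minSet V).Nonempty
  simple : ∀ T : minSet V, IsSimpleGroup T.1
  cen : ∀ T : minSet V, ∀ z ∈ T.1, (∀ t ∈ T.1, Commute z t) → z = 1
  trans : ∀ S T : minSet V, ∃ g : G, g • S = T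
  comm : ∀ S T : minSet V, S ≠ T → ∀ x ∈ S.1, ∀ y ∈ T.1, Commute x y
  gen : sSup (minSet V) = V

theorem Str.of [Finite G] (V : Subgroup G) [V.Normal]
    (hmin : ∀ M : Subgroup G, M.Normal → M ≤ V → M = ⊥ ∨ M = V)
    (hna : ¬ ∀ x ∈ V, ∀ y ∈ V, Commute x y) : Str V := by
  obtain ⟨h1, h2, h3, h4, h5, h6⟩ := nonabelian_structure V hmin hna
  refine ⟨h1, fun T => h4 T T.2, fun T => h5 T T.2, fun S T => ?_, ?_, h3⟩
  · obtain ⟨g, hg⟩ := h6 S S.2 T T.2
    exact ⟨g, Subtype.ext hg.symm⟩
  · intro S T hST x hx y hy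
    exact commute_of_mem h2 (fun U hU => hU.2.2.1) (fun U hU => hU.1) S.2 T.2
      (fun h => hST (Subtype.ext h)) hx hy

theorem Str.nonabelian {V : Subgroup G} [V.Normal] (H : Str V) (T : minSet V) :
    ¬ (∀ x y : T.1, x * y = y * x) := by
  intro h
  have : IsSimpleGroup T.1 := H.simple T
  obtain ⟨x, hx⟩ := exists_ne (1 : T.1)
  apply hx
  exact Subtype.ext (H.cen T x x.2 fun t ht => congrArg Subtype.val (h x ⟨t, ht⟩))

/-- `x` with prescribed coordinates -/
theorem Str.build [Finite G] {V : Subgroup G} [V.Normal] (H : Str V) (f : minSet V → G) (hf : ∀ T, f T ∈ T.1) :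
    ∃ x ∈ V, ∀ g : G, Commute g x → ∀ T : minSet V, f (g • T) = g * f T * g⁻¹ := by
  classical
  let _ : Fintype (minSet V) := Fintype.ofFinite _
  obtain ⟨x, hxV, hx, -⟩ := exists_prod' (fun T : minSet V => T.1) V (fun T => T.2.1) H.comm f hf Finset.univ
  refine ⟨x, hxV, fun g hg T => ?_⟩
  have h1 := hx T (Finset.mem_univ _)
  have h2 := hx (g • T) (Finset.mem_univ _)
  have h3 : g * f T * g⁻¹ ∈ (g • T).1 := by
    rw [smul_coe]
    exact ⟨f T, hf T, rfl⟩
  have h4 : ∀ s ∈ (g • T).1, Commute (g * ((f T)⁻¹ * x) * g⁻¹) s := by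
    intro s hs
    rw [smul_coe] at hs
    obtain ⟨t, ht, rfl⟩ := hs
    have := (h1 t ht).map (MulAut.conj g).toMonoidHom
    exact this
  have h5 : x = g * x * g⁻¹ := by
    rw [hg.eq]; group
  have h6 : (f (g • T))⁻¹ * (g * f T * g⁻¹) = ((f (g • T))⁻¹ * x) * (g * ((f T)⁻¹ * x) * g⁻¹)⁻¹ := by
    have h7 : g * ((f T)⁻¹ * x) * g⁻¹ = (g * f T * g⁻¹)⁻¹ * (g * x * g⁻¹) := by group
    rw [h7, ← h5]; group
  have h8 : (f (g • T))⁻¹ * (g * f T * g⁻¹) = 1 := by
    apply H.cen (g • T) _ (mul_mem (inv_mem (hf _)) h3)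
    intro t ht
    rw [h6]
    exact (h2 t ht).mul_left (h4 t ht).inv_left
  exact inv_mul_eq_one.1 h8

theorem orderOf_conj' (g x : G) : orderOf (g * x * g⁻¹) = orderOf x :=
  orderOf_injective (MulAut.conj g).toMonoidHom (MulAut.conj g).injective x

theorem three_primes {K : Type*} [Group K] [Finite K] (h : ¬ Group.IsSolvable K) :
    3 ≤ (Nat.card K).primeFactors.card := by
  by_contra hlt
  push Not at hlt
  apply h
  have hn : Nat.card K ≠ 0 := Nat.card_pos.ne'
  have hfac := Nat.prod_factorization_pow_eq_self hn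
  rw [Finsupp.prod, Nat.support_factorization] at hfac
  have h3 : (Nat.card K).primeFactors.card = 0 ∨ (Nat.card K).primeFactors.card = 1 ∨
      (Nat.card K).primeFactors.card = 2 := by omega
  rcases h3 with h3 | h3 | h3
  · rw [Finset.card_eq_zero] at h3
    rw [h3, Finset.prod_empty] at hfac
    exact S0144.result 2 3 0 0 Nat.prime_two Nat.prime_three (by simpa only [_root_.pow_zero, _root_.mul_one] using hfac.symm)
  · obtain ⟨p, hp⟩ := Finset.card_eq_one.1 h3
    have hpp : p.Prime := Nat.prime_of_mem_primeFactors (by rw [hp]; simp)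
    rw [hp, Finset.prod_singleton] at hfac
    exact S0144.result p 2 ((Nat.card K).factorization p) 0 hpp Nat.prime_two
      (by rw [pow_zero, mul_one]; exact hfac.symm)
  · obtain ⟨p, q, hpq, hs⟩ := Finset.card_eq_two.1 h3
    have hpp : p.Prime := Nat.prime_of_mem_primeFactors (by rw [hs]; simp)
    have hqp : q.Prime := Nat.prime_of_mem_primeFactors (by rw [hs]; simp)
    rw [hs, Finset.prod_pair hpq] at hfac
    exact S0144.result p q _ _ hpp hqp hfac.symm

/-- elements of three different prime orders -/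
theorem exists_three {K : Type*} [Group K] [Finite K] (h : ¬ Group.IsSolvable K) :
    ∃ x y z : K, orderOf x ≠ 1 ∧ orderOf y ≠ 1 ∧ orderOf z ≠ 1 ∧ orderOf x ≠ orderOf y ∧ orderOf x ≠ orderOf z ∧
      orderOf y ≠ orderOf z := by
  obtain ⟨s, hs, hs3⟩ := Finset.exists_subset_card_eq (three_primes h)
  obtain ⟨p, q, r, hpq, hpr, hqr, rfl⟩ := Finset.card_eq_three.1 hs3
  have hp : p ∈ (Nat.card K).primeFactors := hs (by simp)
  have hq : q ∈ (Nat.card K).primeFactors := hs (by simp)
  have hr : r ∈ (Nat.card K).primeFactors := hs (by simp)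
  have fp : Fact p.Prime := ⟨Nat.prime_of_mem_primeFactors hp⟩
  have fq : Fact q.Prime := ⟨Nat.prime_of_mem_primeFactors hq⟩
  have fr : Fact r.Prime := ⟨Nat.prime_of_mem_primeFactors hr⟩
  obtain ⟨x, hx⟩ := exists_prime_orderOf_dvd_card' p (Nat.dvd_of_mem_primeFactors hp)
  obtain ⟨y, hy⟩ := exists_prime_orderOf_dvd_card' q (Nat.dvd_of_mem_primeFactors hq)
  obtain ⟨z, hz⟩ := exists_prime_orderOf_dvd_card' r (Nat.dvd_of_mem_primeFactors hr)
  refine ⟨x, y, z, ?_, ?_, ?_, ?_, ?_, ?_⟩
  · rw [hx]; exact fp.out.one_lt.ne'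
  · rw [hy]; exact fq.out.one_lt.ne'
  · rw [hz]; exact fr.out.one_lt.ne'
  · rw [hx, hy]; exact hpq
  · rw [hx, hz]; exact hpr
  · rw [hy, hz]; exact hqr

theorem Str.not_solvable {V : Subgroup G} [V.Normal] (H : Str V) (T : minSet V) : ¬ Group.IsSolvable T.1 := by
  intro h
  have : IsSimpleGroup T.1 := H.simple T
  exact H.nonabelian T (IsSimpleGroup.comm_iff_isSolvable.2 h)

/-! ### The data -/

/-- one automorphism of prime order -/
structure Dat1 (N V : Subgroup G) (p : ℕ) (a : G) : Prop where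
  prime : p.Prime
  ndvd : ¬ p ∣ Nat.card N
  le : V ≤ N
  pow : a ^ p = 1
  comm : ∀ g : G, g⁻¹ * a * g * a⁻¹ ∈ N
  move : ∃ v ∈ V, ¬ Commute a v

/-- no element `h * a` of order `p` commutes with `v` -/
def Good (N : Subgroup G) (p : ℕ) (a v : G) : Prop := ∀ h ∈ N, (h * a) ^ p = 1 → ¬ Commute (h * a) v

theorem pow_card_mem {N : Subgroup G} {h : G} (hh : h ∈ N) : h ^ Nat.card N = 1 := by
  have := pow_card_eq_one' (x := (⟨h, hh⟩ : N))
  exact congrArg Subtype.val this

theorem Dat1.cop {N V : Subgroup G} {p : ℕ} {a : G} (D : Dat1 N V p a) : (Nat.card N).Coprime p :=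
  ((Nat.Prime.coprime_iff_not_dvd D.prime).2 D.ndvd).symm

theorem Dat1.cop_comp [Finite G] {N V : Subgroup G} [V.Normal] {p : ℕ} {a : G} (D : Dat1 N V p a) (T : minSet V) :
    p.Coprime (Nat.card T.1) := by
  rw [Nat.Prime.coprime_iff_not_dvd D.prime]
  intro h
  exact D.ndvd (h.trans (Subgroup.card_dvd_of_le (T.2.1.trans D.le)))

theorem Dat1.three_le [Finite G] {N V : Subgroup G} [V.Normal] (H : Str V) {p : ℕ} {a : G} (D : Dat1 N V p a) :
    3 ≤ p := by
  have h2 := D.prime.two_le
  by_contra hlt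
  have hp : p = 2 := by omega
  obtain ⟨T, hT⟩ := H.nonempty
  apply H.not_solvable ⟨T, hT⟩
  apply S0205.result
  rw [← Nat.not_even_iff_odd, even_iff_two_dvd]
  intro h
  have := D.cop_comp ⟨T, hT⟩
  rw [hp, Nat.Prime.coprime_iff_not_dvd Nat.prime_two] at this
  exact this h

theorem mem_normalizer_iff_smul {V : Subgroup G} [V.Normal] [Finite G] {g : G} {T : minSet V} :
    g • T = T ↔ g ∈ normalizer (T.1 : Set G) := by
  rw [Subtype.ext_iff, smul_coe]
  exact mem_normalizer_iff_map_conj_eq.symm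

/-- nontrivial on one component implies nontrivial on all of them -/
theorem Dat1.move_comp [Finite G] {N V : Subgroup G} [V.Normal] (H : Str V) {p : ℕ} {a : G} (D : Dat1 N V p a)
    (hfix : ∀ T : minSet V, a • T = T) (T : minSet V) : ∃ t ∈ T.1, ¬ Commute a t := by
  by_contra hcon
  push Not at hcon
  obtain ⟨v, hv, hav⟩ := D.move
  apply hav
  have hle : sSup (minSet V) ≤ centralizer {a} := by
    refine sSup_le fun U hU => ?_
    intro u hu
    obtain ⟨g, hg⟩ := H.trans T ⟨U, hU⟩
    rw [mem_centralizer_singleton_iff]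
    have hu' : u ∈ (g • T).1 := by rw [hg]; exact hu
    rw [smul_coe] at hu'
    obtain ⟨t, ht, rfl⟩ := hu'
    -- `n * a` acts on `T`
    set n : G := g⁻¹ * a * g * a⁻¹ with hn
    have hnN : n ∈ N := D.comm g
    have hna : n * a = g⁻¹ * a * g := by rw [hn]; group
    have hnaT : (n * a) • T = T := by
      rw [hna, mul_smul, mul_smul, hfix, inv_smul_smul]
    have hnT : n • T = T := by
      have h1 := hnaT
      rwa [mul_smul, hfix] at h1
    have hnm : n ∈ normalizer (T.1 : Set G) := mem_normalizer_iff_smul.1 hnT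
    have ham : a ∈ normalizer (T.1 : Set G) := mem_normalizer_iff_smul.1 (hfix T)
    let φ := T.1.normalizerMonoidHom
    have hφa : φ ⟨a, ham⟩ = 1 := by
      rw [← MonoidHom.mem_ker, Subgroup.normalizerMonoidHom_ker, Subgroup.mem_subgroupOf]
      intro t ht
      exact (hcon t ht).eq.symm
    have h1 : φ ⟨n, hnm⟩ ^ p = 1 := by
      have h2 : φ ⟨n * a, mul_mem hnm ham⟩ = φ ⟨n, hnm⟩ := by
        have : (⟨n * a, mul_mem hnm ham⟩ : normalizer (T.1 : Set G)) = ⟨n, hnm⟩ * ⟨a, ham⟩ := rfl
        rw [this, map_mul, hφa, mul_one]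
      rw [← h2, ← map_pow]
      have h3 : (⟨n * a, mul_mem hnm ham⟩ : normalizer (T.1 : Set G)) ^ p = 1 := by
        apply Subtype.ext
        show (n * a) ^ p = 1
        have h4 : g⁻¹ * a * g = g⁻¹ * a * (g⁻¹)⁻¹ := by rw [inv_inv]
        rw [hna, h4, conj_pow, D.pow, mul_one, mul_inv_cancel]
      rw [h3, map_one]
    have h2 : φ ⟨n, hnm⟩ ^ Nat.card N = 1 := by
      rw [← map_pow]
      have h3 : (⟨n, hnm⟩ : normalizer (T.1 : Set G)) ^ Nat.card N = 1 := by
        apply Subtype.ext
        exact pow_card_mem hnN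
      rw [h3, map_one]
    have h3 : φ ⟨n, hnm⟩ = 1 := by
      have := mem_of_pow_coprime (⊥ : Subgroup (MulAut T.1)) D.cop.symm (Subgroup.mem_bot.2 h1) (Subgroup.mem_bot.2 h2)
      exact Subgroup.mem_bot.1 this
    rw [← MonoidHom.mem_ker, Subgroup.normalizerMonoidHom_ker, Subgroup.mem_subgroupOf] at h3
    have h4 : t * n = n * t := h3 t ht
    have h5 : Commute (n * a) t := (show Commute n t from h4.symm).mul_left (hcon t ht)
    rw [hna] at h5
    show g * t * g⁻¹ * a = a * (g * t * g⁻¹)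
    have h6 : g⁻¹ * a * g * t = t * (g⁻¹ * a * g) := h5
    calc g * t * g⁻¹ * a = g * (t * (g⁻¹ * a * g)) * g⁻¹ := by group
      _ = g * (g⁻¹ * a * g * t) * g⁻¹ := by rw [h6]
      _ = a * (g * t * g⁻¹) := by group
  rw [H.gen] at hle
  exact (mem_centralizer_singleton_iff.1 (hle hv)).symm

/-- an element of a component moved regularly by a coprime group normalising the component -/
theorem exists_s [Finite G] {V : Subgroup G} [V.Normal] (T : minSet V) (hFM : FM T.1) (B : Subgroup G)
    (hB : B ≤ normalizer (T.1 : Set G)) (hcop : (Nat.card B).Coprime (Nat.card T.1)) :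
    ∃ s ∈ T.1, ∀ b ∈ B, b * s * b⁻¹ ∈ zpowers s ∧ (Commute b s → ∀ t ∈ T.1, Commute b t) := by
  obtain ⟨s, -, h1, h2, -⟩ := hFM.apply ((T.1.normalizerMonoidHom).comp (Subgroup.inclusion hB)) hcop
  refine ⟨s, s.2, fun b hb => ⟨?_, fun hbs => ?_⟩⟩
  · obtain ⟨m, hm⟩ := mem_zpowers_iff.1 (h1 ⟨b, hb⟩)
    refine mem_zpowers_iff.2 ⟨m, ?_⟩
    have := congrArg Subtype.val hm
    exact this
  · have h3 := h2 ⟨b, hb⟩ (Subtype.ext (by
      show b * s * b⁻¹ = s
      rw [hbs.eq]; group))
    have h4 : T.1.normalizerMonoidHom ⟨b, hB hb⟩ = 1 := h3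
    rw [← MonoidHom.mem_ker, Subgroup.normalizerMonoidHom_ker, Subgroup.mem_subgroupOf] at h4
    intro t ht
    exact (h4 t ht).symm

/-! ### The cases -/

/-- both automorphisms move components -/
theorem case1 [Finite G] {N V : Subgroup G} [V.Normal] (H : Str V) {p q : ℕ} {a b : G}
    (Da : Dat1 N V p a) (Db : Dat1 N V q b) (T₀ T₁ : minSet V) (h0 : a • T₀ ≠ T₀) (h1 : b • T₁ ≠ T₁)
    (H1 : ∀ k : ℕ, a ^ k • T₀ ≠ T₀ → a ^ k • T₀ ≠ T₁)
    (H2 : ∀ k : ℕ, b ^ k • T₁ ≠ T₁ → b ^ k • T₁ ≠ T₀ ∧ ∀ l : ℕ, a ^ l • T₀ ≠ b ^ k • T₁) :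
    ∃ v ∈ V, Good N p a v ∧ Good N q b v := by
  classical
  obtain ⟨x, y, z, hx1, hy1, hz1, hxy, hxz, hyz⟩ := exists_three (H.not_solvable T₀)
  choose c hc using fun T => H.trans T₀ T
  let f : minSet V → G := fun T =>
    if T = T₀ ∨ T = T₁ then c T * z * (c T)⁻¹
    else if ∃ k : ℕ, a ^ k • T₀ = T then c T * x * (c T)⁻¹
    else if ∃ k : ℕ, b ^ k • T₁ = T then c T * y * (c T)⁻¹ else 1
  have hmem : ∀ (T : minSet V) (w : T₀.1), c T * w * (c T)⁻¹ ∈ T.1 := by
    intro T w
    have h2 : T.1 = T₀.1.map (MulAut.conj (c T)).toMonoidHom := congrArg Subtype.val (hc T).symm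
    rw [h2]
    exact ⟨w, w.2, rfl⟩
  have hf : ∀ T, f T ∈ T.1 := by
    intro T
    show (if T = T₀ ∨ T = T₁ then c T * z * (c T)⁻¹
      else if ∃ k : ℕ, a ^ k • T₀ = T then c T * x * (c T)⁻¹
      else if ∃ k : ℕ, b ^ k • T₁ = T then c T * y * (c T)⁻¹ else (1 : G)) ∈ T.1
    split_ifs
    · exact hmem T z
    · exact hmem T x
    · exact hmem T y
    · exact one_mem _
  have hord : ∀ T, orderOf (f T) = if T = T₀ ∨ T = T₁ then orderOf z
      else if ∃ k : ℕ, a ^ k • T₀ = T then orderOf x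
      else if ∃ k : ℕ, b ^ k • T₁ = T then orderOf y else 1 := by
    intro T
    show orderOf (if T = T₀ ∨ T = T₁ then c T * z * (c T)⁻¹
      else if ∃ k : ℕ, a ^ k • T₀ = T then c T * x * (c T)⁻¹
      else if ∃ k : ℕ, b ^ k • T₁ = T then c T * y * (c T)⁻¹ else (1 : G)) = _
    split_ifs
    · rw [orderOf_conj', Subgroup.orderOf_coe]
    · rw [orderOf_conj', Subgroup.orderOf_coe]
    · rw [orderOf_conj', Subgroup.orderOf_coe]
    · exact orderOf_one
  obtain ⟨v, hvV, hv⟩ := H.build f hf
  have hinv : ∀ g : G, Commute g v → ∀ T, orderOf (f (g • T)) = orderOf (f T) := by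
    intro g hg T
    rw [hv g hg T, orderOf_conj']
  -- the special points
  have hz : ∀ T, orderOf (f T) = orderOf z → T = T₀ ∨ T = T₁ := by
    intro T hT
    by_contra hcon
    rw [hord, if_neg hcon] at hT
    split_ifs at hT
    · exact hxz hT
    · exact hyz hT
    · exact hz1 hT.symm
  have hz' : ∀ T, (T = T₀ ∨ T = T₁) → orderOf (f T) = orderOf z := by
    intro T hT
    rw [hord, if_pos hT]
  have hxx : ∀ T, orderOf (f T) = orderOf x → ∃ k : ℕ, a ^ k • T₀ = T := by
    intro T hT
    rw [hord] at hT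
    split_ifs at hT with h2 h3
    · exact absurd hT.symm hxz
    · exact h3
    · exact absurd hT.symm hxy
    · exact absurd hT.symm hx1
  have hyy : ∀ T, orderOf (f T) = orderOf y → ∃ k : ℕ, b ^ k • T₁ = T := by
    intro T hT
    rw [hord] at hT
    split_ifs at hT with h2 h3 h4
    · exact absurd hT.symm hyz
    · exact absurd hT hxy
    · exact h4
    · exact absurd hT.symm hy1
  -- elements of odd prime order fix the special points
  have hsp : ∀ (r : ℕ) (g : G), r.Prime → 3 ≤ r → g ^ r = 1 → Commute g v → g • T₀ = T₀ ∧ g • T₁ = T₁ := by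
    intro r g hr h3 hgr hg
    have hΔ : ∀ T ∈ ({T₀, T₁} : Finset (minSet V)), g • T ∈ ({T₀, T₁} : Finset (minSet V)) := by
      intro T hT
      rw [Finset.mem_insert, Finset.mem_singleton] at hT ⊢
      exact hz _ ((hinv g hg T).trans (hz' T hT))
    have hcard : ({T₀, T₁} : Finset (minSet V)).card < r := lt_of_le_of_lt Finset.card_le_two (by omega)
    exact ⟨fix_of_small hr hgr _ hΔ hcard (by simp), fix_of_small hr hgr _ hΔ hcard (by simp)⟩
  refine ⟨v, hvV, ?_, ?_⟩
  · intro h hh hp hcom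
    apply h0
    obtain ⟨h2, -⟩ := hsp p (h * a) Da.prime (Da.three_le H) hp hcom
    refine perm_trick Da.prime Da.cop (pow_card_mem hh) Da.pow hp h2 ?_
    intro k hk
    have h3 : ¬ (a ^ k • T₀ = T₀ ∨ a ^ k • T₀ = T₁) := by
      rintro (h | h)
      · exact hk h
      · exact H1 k hk h
    obtain ⟨l, hl⟩ := hxx ((h * a) • a ^ k • T₀) (by
      rw [hinv _ hcom, hord, if_neg h3, if_pos ⟨k, rfl⟩])
    exact ⟨l, hl.symm⟩
  · intro h hh hp hcom
    apply h1
    obtain ⟨-, h2⟩ := hsp q (h * b) Db.prime (Db.three_le H) hp hcom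
    refine perm_trick Db.prime Db.cop (pow_card_mem hh) Db.pow hp h2 ?_
    intro k hk
    obtain ⟨h4, h5⟩ := H2 k hk
    have h3 : ¬ (b ^ k • T₁ = T₀ ∨ b ^ k • T₁ = T₁) := by
      rintro (h | h)
      · exact h4 h
      · exact hk h
    obtain ⟨l, hl⟩ := hyy ((h * b) • b ^ k • T₁) (by
      rw [hinv _ hcom, hord, if_neg h3, if_neg (by rintro ⟨l, hl⟩; exact h5 l hl), if_pos ⟨k, rfl⟩])
    exact ⟨l, hl.symm⟩

/-- only `a` moves components -/
theorem case2 [Finite G] {N V : Subgroup G} [V.Normal] (H : Str V) (hFM : ∀ T : minSet V, FM T.1) {p q : ℕ} {a b : G}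
    (Da : Dat1 N V p a) (Db : Dat1 N V q b) (T₀ : minSet V) (h0 : a • T₀ ≠ T₀) (hb : ∀ T : minSet V, b • T = T) :
    ∃ v ∈ V, Good N p a v ∧ Good N q b v := by
  classical
  have hbn : b ∈ normalizer (T₀.1 : Set G) := mem_normalizer_iff_smul.1 (hb T₀)
  have hcardb : Nat.card (zpowers b) ∣ q := by
    rw [Nat.card_zpowers]
    exact orderOf_dvd_of_pow_eq_one Db.pow
  obtain ⟨s, hsT, hs⟩ := exists_s T₀ (hFM T₀) (zpowers b) ((zpowers_le).2 hbn)
    ((Db.cop_comp T₀).coprime_dvd_left hcardb)
  obtain ⟨hs1, hs2⟩ := hs b (mem_zpowers b)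
  obtain ⟨t, ht, hbt⟩ := Db.move_comp H hb T₀
  have hbs : ¬ Commute b s := fun h => hbt (hs2 h t ht)
  have hsne : orderOf s ≠ 1 := by
    intro h
    rw [orderOf_eq_one_iff] at h
    apply hbs
    rw [h]
    exact Commute.one_right b
  obtain ⟨x, hx1, hxs⟩ : ∃ x : T₀.1, orderOf x ≠ 1 ∧ orderOf x ≠ orderOf s := by
    obtain ⟨x, y, z, hx1, hy1, hz1, hxy, hxz, hyz⟩ := exists_three (H.not_solvable T₀)
    by_cases h : orderOf x = orderOf s
    · exact ⟨y, hy1, fun h2 => hxy (h.trans h2.symm)⟩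
    · exact ⟨x, hx1, h⟩
  choose c hc using fun T => H.trans T₀ T
  let f : minSet V → G := fun T =>
    if T = T₀ then s else if ∃ k : ℕ, a ^ k • T₀ = T then c T * x * (c T)⁻¹ else 1
  have hmem : ∀ (T : minSet V) (w : T₀.1), c T * w * (c T)⁻¹ ∈ T.1 := by
    intro T w
    have h2 : T.1 = T₀.1.map (MulAut.conj (c T)).toMonoidHom := congrArg Subtype.val (hc T).symm
    rw [h2]
    exact ⟨w, w.2, rfl⟩
  have hf : ∀ T, f T ∈ T.1 := by
    intro T
    show (if T = T₀ then s else if ∃ k : ℕ, a ^ k • T₀ = T then c T * x * (c T)⁻¹ else (1 : G)) ∈ T.1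
    split_ifs with h2
    · rw [h2]; exact hsT
    · exact hmem T x
    · exact one_mem _
  have hord : ∀ T, orderOf (f T) = if T = T₀ then orderOf s
      else if ∃ k : ℕ, a ^ k • T₀ = T then orderOf x else 1 := by
    intro T
    show orderOf (if T = T₀ then s else if ∃ k : ℕ, a ^ k • T₀ = T then c T * x * (c T)⁻¹ else (1 : G)) = _
    split_ifs
    · rfl
    · rw [orderOf_conj', Subgroup.orderOf_coe]
    · exact orderOf_one
  obtain ⟨v, hvV, hv⟩ := H.build f hf
  have hinv : ∀ g : G, Commute g v → ∀ T, orderOf (f (g • T)) = orderOf (f T) := by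
    intro g hg T
    rw [hv g hg T, orderOf_conj']
  have hs0 : ∀ T, orderOf (f T) = orderOf s → T = T₀ := by
    intro T hT
    by_contra hcon
    rw [hord, if_neg hcon] at hT
    split_ifs at hT
    · exact hxs hT
    · exact hsne hT.symm
  have hxx : ∀ T, orderOf (f T) = orderOf x → ∃ k : ℕ, a ^ k • T₀ = T := by
    intro T hT
    rw [hord] at hT
    split_ifs at hT with h2 h3
    · exact absurd hT.symm hxs
    · exact h3
    · exact absurd hT.symm hx1
  have hsp : ∀ g : G, Commute g v → g • T₀ = T₀ := by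
    intro g hg
    apply hs0
    rw [hinv g hg, hord, if_pos rfl]
  have hfs : f T₀ = s := if_pos rfl
  refine ⟨v, hvV, ?_, ?_⟩
  · intro h hh hp hcom
    apply h0
    refine perm_trick Da.prime Da.cop (pow_card_mem hh) Da.pow hp (hsp _ hcom) ?_
    intro k hk
    obtain ⟨l, hl⟩ := hxx ((h * a) • a ^ k • T₀) (by
      rw [hinv _ hcom, hord, if_neg hk, if_pos ⟨k, rfl⟩])
    exact ⟨l, hl.symm⟩
  · intro h hh hp hcom
    apply hbs
    refine commute_of_agree Db.cop.symm Db.pow (pow_card_mem hh) hs1 ?_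
    have h2 := hv _ hcom T₀
    rw [hsp _ hcom, hfs] at h2
    show h * b * s = s * (h * b)
    nth_rewrite 2 [h2]
    group

/-- no component is moved -/
theorem case3 [Finite G] {N V : Subgroup G} [V.Normal] (H : Str V) (hFM : ∀ T : minSet V, FM T.1) {p q : ℕ} {a b : G}
    (hpq : p ≠ q) (hab : Commute a b)
    (Da : Dat1 N V p a) (Db : Dat1 N V q b) (ha : ∀ T : minSet V, a • T = T) (hb : ∀ T : minSet V, b • T = T) :
    ∃ v ∈ V, Good N p a v ∧ Good N q b v := by
  classical
  obtain ⟨T₀, hT₀⟩ := H.nonempty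
  set T₀ : minSet V := ⟨T₀, hT₀⟩
  have hcpq : p.Coprime q := (Nat.coprime_primes Da.prime Db.prime).2 hpq
  have hbn : b ∈ normalizer (T₀.1 : Set G) := mem_normalizer_iff_smul.1 (hb T₀)
  have han : a ∈ normalizer (T₀.1 : Set G) := mem_normalizer_iff_smul.1 (ha T₀)
  have hpow : (a * b) ^ (p * q) = 1 := by
    rw [hab.mul_pow, pow_mul, Da.pow, one_pow, one_mul, mul_comm, pow_mul, Db.pow, one_pow]
  have hcard : Nat.card (zpowers (a * b)) ∣ p * q := by
    rw [Nat.card_zpowers]
    exact orderOf_dvd_of_pow_eq_one hpow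
  obtain ⟨s, hsT, hs⟩ := exists_s T₀ (hFM T₀) (zpowers (a * b)) ((zpowers_le).2 (mul_mem han hbn))
    (((Da.cop_comp T₀).mul_left (Db.cop_comp T₀)).coprime_dvd_left hcard)
  have hma : a ∈ zpowers (a * b) := by
    refine mem_of_pow_coprime _ hcpq (by rw [Da.pow]; exact one_mem _) ?_
    have h2 : (a * b) ^ q = a ^ q := by rw [hab.mul_pow, Db.pow, mul_one]
    rw [← h2]
    exact pow_mem (mem_zpowers _) _
  have hmb : b ∈ zpowers (a * b) := by
    refine mem_of_pow_coprime _ hcpq ?_ (by rw [Db.pow]; exact one_mem _)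
    have h2 : (a * b) ^ p = b ^ p := by rw [hab.mul_pow, Da.pow, one_mul]
    rw [← h2]
    exact pow_mem (mem_zpowers _) _
  obtain ⟨hsb1, hsb2⟩ := hs b hmb
  obtain ⟨hsa1, hsa2⟩ := hs a hma
  obtain ⟨t, ht, hbt⟩ := Db.move_comp H hb T₀
  have hbs : ¬ Commute b s := fun h => hbt (hsb2 h t ht)
  obtain ⟨t', ht', hat⟩ := Da.move_comp H ha T₀
  have has : ¬ Commute a s := fun h => hat (hsa2 h t' ht')
  have hsne : orderOf s ≠ 1 := by
    intro h
    rw [orderOf_eq_one_iff] at h
    apply hbs
    rw [h]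
    exact Commute.one_right b
  let f : minSet V → G := fun T => if T = T₀ then s else 1
  have hf : ∀ T, f T ∈ T.1 := by
    intro T
    show (if T = T₀ then s else (1 : G)) ∈ T.1
    split_ifs with h2
    · rw [h2]; exact hsT
    · exact one_mem _
  obtain ⟨v, hvV, hv⟩ := H.build f hf
  have hfs : f T₀ = s := if_pos rfl
  have hsp : ∀ g : G, Commute g v → g • T₀ = T₀ := by
    intro g hg
    by_contra hcon
    have h2 := hv g hg T₀
    have h3 : f (g • T₀) = 1 := if_neg hcon
    rw [h3, hfs] at h2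
    apply hsne
    rw [← orderOf_conj' g s, ← h2, orderOf_one]
  have hfin : ∀ (g : G), Commute g v → Commute g s := by
    intro g hcom
    have h2 := hv _ hcom T₀
    rw [hsp _ hcom, hfs] at h2
    show g * s = s * g
    nth_rewrite 2 [h2]
    group
  refine ⟨v, hvV, ?_, ?_⟩
  · intro h hh hp hcom
    exact has (commute_of_agree Da.cop.symm Da.pow (pow_card_mem hh) hsa1 (hfin _ hcom))
  · intro h hh hp hcom
    exact hbs (commute_of_agree Db.cop.symm Db.pow (pow_card_mem hh) hsb1 (hfin _ hcom))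

/-- the statement in the semidirect product -/
theorem core [Finite G] {N V : Subgroup G} [V.Normal] (H : Str V) (hFM : ∀ T : minSet V, FM T.1) {p q : ℕ} {a b : G}
    (hpq : p ≠ q) (hab : Commute a b) (Da : Dat1 N V p a) (Db : Dat1 N V q b) :
    ∃ v ∈ V, Good N p a v ∧ Good N q b v := by
  classical
  have hcpq : p.Coprime q := (Nat.coprime_primes Da.prime Db.prime).2 hpq
  by_cases ha : ∀ T : minSet V, a • T = T
  · by_cases hb : ∀ T : minSet V, b • T = T
    · exact case3 H hFM hpq hab Da Db ha hb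
    · push Not at hb
      obtain ⟨T, hT⟩ := hb
      obtain ⟨v, hvV, h1, h2⟩ := case2 H hFM Db Da T hT ha
      exact ⟨v, hvV, h2, h1⟩
  · by_cases hb : ∀ T : minSet V, b • T = T
    · push Not at ha
      obtain ⟨T, hT⟩ := ha
      exact case2 H hFM Da Db T hT hb
    · push Not at ha hb
      by_cases hboth : ∃ T : minSet V, a • T ≠ T ∧ b • T ≠ T
      · obtain ⟨T, haT, hbT⟩ := hboth
        refine case1 H Da Db T T haT hbT (fun k hk => hk) (fun k hk => ⟨hk, fun l hl => hk ?_⟩)
        -- `a ^ l • T = b ^ k • T`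
        have h1 : ∀ i : ℕ, (a ^ l) ^ i • T = (b ^ k) ^ i • T := by
          intro i
          induction i with
          | zero => rw [pow_zero, pow_zero]
          | succ i ih =>
            rw [pow_succ', mul_smul, ih, ← mul_smul, ((hab.pow_pow l k).pow_right i).eq, mul_smul, hl, ← mul_smul,
              ← pow_succ]
        have h2 : (b ^ k) ^ p • T = T := by
          rw [← h1, ← pow_mul, mul_comm, pow_mul, Da.pow, one_pow, one_smul]
        have h3 : (b ^ k) ^ q • T = T := by
          rw [← pow_mul, mul_comm, pow_mul, Db.pow, one_pow, one_smul]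
        exact smul_eq_of_coprime hcpq h2 h3
      · push Not at hboth
        obtain ⟨T₀, h0⟩ := ha
        obtain ⟨T₁, h1⟩ := hb
        have hbT₀ : b • T₀ = T₀ := hboth T₀ h0
        have haT₁ : a • T₁ = T₁ := by
          by_contra h
          exact h1 (hboth T₁ h)
        have hbk : ∀ k : ℕ, b ^ k • T₀ = T₀ := by
          intro k
          induction k with
          | zero => rw [pow_zero, one_smul]
          | succ k ih => rw [pow_succ, mul_smul, hbT₀, ih]
        have hak : ∀ k : ℕ, a ^ k • T₁ = T₁ := by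
          intro k
          induction k with
          | zero => rw [pow_zero, one_smul]
          | succ k ih => rw [pow_succ, mul_smul, haT₁, ih]
        refine case1 H Da Db T₀ T₁ h0 h1 (fun k hk h => ?_) (fun k hk => ⟨fun h => ?_, fun l hl => ?_⟩)
        · -- `a ^ k • T₀ = T₁`
          apply h0
          have h2 : a • a ^ k • T₀ = a ^ k • T₀ := by rw [h, haT₁]
          rw [← mul_smul, (Commute.refl a).pow_right k |>.eq, mul_smul] at h2
          exact smul_left_cancel _ h2
        · apply h1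
          have h2 : b • b ^ k • T₁ = b ^ k • T₁ := by rw [h, hbT₀]
          rw [← mul_smul, (Commute.refl b).pow_right k |>.eq, mul_smul] at h2
          exact smul_left_cancel _ h2
        · -- `a ^ l • T₀ = b ^ k • T₁`
          apply h0
          have h2 : a • b ^ k • T₁ = b ^ k • T₁ := by
            rw [← mul_smul, (hab.pow_right k).eq, mul_smul, haT₁]
          rw [← hl, ← mul_smul, (Commute.refl a).pow_right l |>.eq, mul_smul] at h2
          exact smul_left_cancel _ h2

/-! ### The semidirect product -/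

open Cfsg.Agent.H532.Thr

theorem conj_comm_aux {G : Type*} [Group G] {c g v : G} (h : c * (g * v * g⁻¹) * c⁻¹ = g * v * g⁻¹) :
    Commute (g⁻¹ * c * g) v := by
  have h8 : c * (g * v * g⁻¹) = (g * v * g⁻¹) * c := by
    rw [← mul_inv_eq_iff_eq_mul]; exact h
  show g⁻¹ * c * g * v = v * (g⁻¹ * c * g)
  calc g⁻¹ * c * g * v = g⁻¹ * (c * (g * v * g⁻¹)) * g := by group
    _ = g⁻¹ * ((g * v * g⁻¹) * c) * g := by rw [h8]
    _ = _ := by group

section Semi

variable {N : Type u} [Group N]

/-- conjugation by the complement -/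
theorem inr_conj (A : Subgroup (MulAut N)) (α : A) (n : N) :
    (SemidirectProduct.inr α : N ⋊[A.subtype] A) * SemidirectProduct.inl n * (SemidirectProduct.inr α)⁻¹ =
      SemidirectProduct.inl ((α : MulAut N) n) := by
  rw [← map_inv, ← SemidirectProduct.inl_aut]
  rfl

theorem lemmaX [Finite N]
    (hFM : ∀ (K : Type u) [Group K] [Finite K] [IsSimpleGroup K], ¬ (∀ x y : K, x * y = y * x) → FM K)
    {p q : ℕ} (hp : p.Prime) (hq : q.Prime) (hpq : p ≠ q) (hpN : ¬ p ∣ Nat.card N) (hqN : ¬ q ∣ Nat.card N)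
    (a b : MulAut N) (hab : Commute a b) (ha : a ^ p = 1) (hb : b ^ q = 1)
    (V : Subgroup N) [V.Normal] (hVa : _root_.Cfsg.Agent.H532.Thr.Inv a V) (hVb : _root_.Cfsg.Agent.H532.Thr.Inv b V)
    (hmin : ∀ M : Subgroup N, M.Normal → _root_.Cfsg.Agent.H532.Thr.Inv a M → _root_.Cfsg.Agent.H532.Thr.Inv b M → M ≤ V → M = ⊥ ∨ M = V)
    (hna : ∃ x ∈ V, ∃ y ∈ V, x * y ≠ y * x) (hta : ∃ v ∈ V, a v ≠ v) (htb : ∃ v ∈ V, b v ≠ v) :
    ∃ v ∈ V, ¬ Fxd a v ∧ ¬ Fxd b v := by
  classical
  have hfinA : Finite (MulAut N) := Finite.of_injective (fun f : MulAut N => (f : N → N)) DFunLike.coe_injective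
  let A : Subgroup (MulAut N) := Subgroup.closure {a, b}
  have haA : a ∈ A := Subgroup.subset_closure (by simp)
  have hbA : b ∈ A := Subgroup.subset_closure (by simp)
  have hAa : ∀ α ∈ A, Commute α a := by
    intro α hα
    have h1 : A ≤ Subgroup.centralizer {a} := by
      refine (Subgroup.closure_le _).2 ?_
      intro x hx
      rw [SetLike.mem_coe, Subgroup.mem_centralizer_singleton_iff]
      rcases hx with rfl | hx
      · rfl
      · rw [Set.mem_singleton_iff.1 hx]; exact hab.symm.eq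
    exact Subgroup.mem_centralizer_singleton_iff.1 (h1 hα)
  have hAb : ∀ α ∈ A, Commute α b := by
    intro α hα
    have h1 : A ≤ Subgroup.centralizer {b} := by
      refine (Subgroup.closure_le _).2 ?_
      intro x hx
      rw [SetLike.mem_coe, Subgroup.mem_centralizer_singleton_iff]
      rcases hx with rfl | hx
      · exact hab.eq
      · rw [Set.mem_singleton_iff.1 hx]
    exact Subgroup.mem_centralizer_singleton_iff.1 (h1 hα)
  let G := N ⋊[A.subtype] A
  have hfinG : Finite G := Finite.of_equiv _ (SemidirectProduct.equivProd (N := N) (G := A) (φ := A.subtype)).symm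
  let i : N →* G := SemidirectProduct.inl
  have hi : Function.Injective i := SemidirectProduct.inl_injective
  let a' : G := SemidirectProduct.inr ⟨a, haA⟩
  let b' : G := SemidirectProduct.inr ⟨b, hbA⟩
  have hconj : ∀ (g : G) (n : N), g * i n * g⁻¹ = i (g.left * (g.right : MulAut N) n * g.left⁻¹) := by
    intro g n
    have h1 : g = i g.left * SemidirectProduct.inr g.right := (SemidirectProduct.inl_left_mul_inr_right g).symm
    calc g * i n * g⁻¹ = i g.left * (SemidirectProduct.inr g.right * i n * (SemidirectProduct.inr g.right)⁻¹) *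
          (i g.left)⁻¹ := by
          conv_lhs => rw [h1]
          rw [mul_inv_rev]
          simp only [mul_assoc]
      _ = i g.left * i ((g.right : MulAut N) n) * (i g.left)⁻¹ := by rw [inr_conj]
      _ = _ := by rw [map_mul, map_mul, map_inv]
  have hinv : ∀ M : Subgroup N, _root_.Cfsg.Agent.H532.Thr.Inv a M → _root_.Cfsg.Agent.H532.Thr.Inv b M → ∀ α ∈ A, ∀ n ∈ M, α n ∈ M := by
    intro M hMa hMb α hα
    let S : Subgroup (MulAut N) :=
      { carrier := {β | _root_.Cfsg.Agent.H532.Thr.Inv β M}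
        mul_mem' := fun {x y} hx hy n => by
          rw [MulAut.mul_apply]
          exact (hx _).trans (hy _)
        one_mem' := fun n => Iff.rfl
        inv_mem' := fun {x} hx n => by
          have := hx (x⁻¹ n)
          rw [MulAut.apply_inv_self] at this
          exact this.symm }
    have h1 : A ≤ S := by
      refine (Subgroup.closure_le _).2 ?_
      intro x hx
      rcases hx with rfl | hx
      · exact hMa
      · rw [Set.mem_singleton_iff.1 hx]; exact hMb
    intro n hn
    exact ((h1 hα) n).2 hn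
  have hnorm : ∀ M : Subgroup N, M.Normal → _root_.Cfsg.Agent.H532.Thr.Inv a M → _root_.Cfsg.Agent.H532.Thr.Inv b M → (M.map i).Normal := by
    intro M hM hMa hMb
    refine ⟨?_⟩
    rintro _ ⟨n, hn, rfl⟩ g
    rw [hconj]
    exact ⟨_, hM.conj_mem _ (hinv M hMa hMb _ g.right.2 n hn) _, rfl⟩
  let N' : Subgroup G := i.range
  have hN' : N'.Normal := by
    refine ⟨?_⟩
    rintro _ ⟨n, rfl⟩ g
    rw [hconj]
    exact ⟨_, rfl⟩
  have hcardN : Nat.card N' = Nat.card N := (Nat.card_congr (MonoidHom.ofInjective hi).toEquiv).symm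
  let V' : Subgroup G := V.map i
  have hV' : V'.Normal := hnorm V inferInstance hVa hVb
  have hV'N : V' ≤ N' := by
    rintro _ ⟨n, -, rfl⟩
    exact ⟨n, rfl⟩
  have hmin' : ∀ M : Subgroup G, M.Normal → M ≤ V' → M = ⊥ ∨ M = V' := by
    intro M hM hMV
    have h1 : (M.comap i).map i = M := by
      rw [Subgroup.map_comap_eq, inf_eq_right]
      exact hMV.trans hV'N
    have hM1 : (M.comap i).Normal := hM.comap i
    have hIa : ∀ (c : MulAut N) (hc : c ∈ A), _root_.Cfsg.Agent.H532.Thr.Inv c (M.comap i) := by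
      intro c hc
      apply Inv.of_le
      intro n hn
      rw [Subgroup.mem_comap] at hn ⊢
      have h2 := hM.conj_mem _ hn (SemidirectProduct.inr ⟨c, hc⟩ : G)
      rw [inr_conj] at h2
      exact h2
    have hle : M.comap i ≤ V := by
      intro n hn
      obtain ⟨v, hv, e⟩ := hMV hn
      rw [← hi e]
      exact hv
    rcases hmin _ hM1 (hIa a haA) (hIa b hbA) hle with h | h
    · left
      rw [← h1, h, Subgroup.map_bot]
    · right
      rw [← h1, h]
  have hstr : Str V' := Str.of V' hmin' (by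
    intro h
    obtain ⟨x, hx, y, hy, hxy⟩ := hna
    apply hxy
    apply hi
    rw [map_mul, map_mul]
    exact h _ ⟨x, hx, rfl⟩ _ ⟨y, hy, rfl⟩)
  have hFM' : ∀ T : minSet V', FM T.1 := by
    intro T
    have := hstr.simple T
    exact hFM T.1 (hstr.nonabelian T)
  have hab' : Commute a' b' := by
    have h1 : Commute (⟨a, haA⟩ : A) ⟨b, hbA⟩ := Subtype.ext hab
    exact h1.map (SemidirectProduct.inr : A →* G)
  have hcm : ∀ (c : MulAut N) (hc : c ∈ A), (∀ α ∈ A, Commute α c) → ∀ g : G,
      g⁻¹ * (SemidirectProduct.inr ⟨c, hc⟩ : G) * g * (SemidirectProduct.inr ⟨c, hc⟩ : G)⁻¹ ∈ N' := by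
    intro c hc hcA g
    have h0 : N' = (SemidirectProduct.rightHom : G →* A).ker := SemidirectProduct.range_inl_eq_ker_rightHom
    rw [h0, MonoidHom.mem_ker, map_mul, map_mul, map_mul, map_inv, map_inv, SemidirectProduct.rightHom_inr]
    have h1 : Commute (SemidirectProduct.rightHom g : A) ⟨c, hc⟩ := Subtype.ext (hcA _ (SemidirectProduct.rightHom g).2)
    generalize (SemidirectProduct.rightHom g : A) = x at h1 ⊢
    rw [mul_assoc x⁻¹, ← h1.eq]
    group
  have hpw : ∀ (c : MulAut N) (hc : c ∈ A) (r : ℕ), c ^ r = 1 → (SemidirectProduct.inr ⟨c, hc⟩ : G) ^ r = 1 := by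
    intro c hc r h
    rw [← map_pow]
    have : (⟨c, hc⟩ : A) ^ r = 1 := Subtype.ext h
    rw [this, map_one]
  have hmv : ∀ (c : MulAut N) (hc : c ∈ A), (∃ v ∈ V, c v ≠ v) →
      ∃ v ∈ V', ¬ Commute (SemidirectProduct.inr ⟨c, hc⟩ : G) v := by
    intro c hc ⟨v, hv, hne⟩
    refine ⟨i v, ⟨v, hv, rfl⟩, fun h => hne ?_⟩
    have h1 : (SemidirectProduct.inr ⟨c, hc⟩ : G) * i v * (SemidirectProduct.inr ⟨c, hc⟩ : G)⁻¹ = i v := by
      rw [h.eq]; group
    rw [inr_conj] at h1
    exact hi h1
  have Da : Dat1 N' V' p a' :=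
    ⟨hp, by rwa [hcardN], hV'N, hpw a haA p ha, hcm a haA hAa, hmv a haA hta⟩
  have Db : Dat1 N' V' q b' :=
    ⟨hq, by rwa [hcardN], hV'N, hpw b hbA q hb, hcm b hbA hAb, hmv b hbA htb⟩
  obtain ⟨v', ⟨v, hv, rfl⟩, h1, h2⟩ := core hstr hFM' hpq hab' Da Db
  have hgood : ∀ (c : MulAut N) (hc : c ∈ A) (r : ℕ), r.Prime → ¬ r ∣ Nat.card N → c ^ r = 1 →
      Good N' r (SemidirectProduct.inr ⟨c, hc⟩ : G) (i v) → ¬ Fxd c v := by
    intro c hc r hr hrN hcr hG hF
    have hcop : Cop c r := ⟨hr.pos, hcr, (Nat.Prime.coprime_iff_not_dvd hr).2 hrN⟩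
    obtain ⟨g, hg⟩ := hcop.exists_conj_fix hF
    have hg' : c (g * v * g⁻¹) = g * v * g⁻¹ := hg
    set c' : G := SemidirectProduct.inr ⟨c, hc⟩ with hc'
    have h3 : c' * i g = i (c g) * c' := by
      have := inr_conj A ⟨c, hc⟩ g
      have h4 : c' * i g * c'⁻¹ = i (c g) := this
      rw [← h4, inv_mul_cancel_right]
    have h5 : (i (g⁻¹ * c g)) * c' = (i g)⁻¹ * c' * i g := by
      rw [map_mul, map_inv, mul_assoc, ← h3, mul_assoc]
    have h6 : c' * i (g * v * g⁻¹) * c'⁻¹ = i (g * v * g⁻¹) := by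
      have := inr_conj A ⟨c, hc⟩ (g * v * g⁻¹)
      have h4 : c' * i (g * v * g⁻¹) * c'⁻¹ = i (c (g * v * g⁻¹)) := this
      rw [h4, hg']
    refine hG (i (g⁻¹ * c g)) ⟨_, rfl⟩ ?_ ?_
    · rw [h5]
      have h7 : (i g)⁻¹ * c' * i g = (i g)⁻¹ * c' * ((i g)⁻¹)⁻¹ := by rw [inv_inv]
      rw [h7, conj_pow, hpw c hc r hcr, mul_one, mul_inv_cancel]
    · rw [h5]
      rw [map_mul, map_mul, map_inv] at h6
      exact conj_comm_aux h6
  exact ⟨v, hv, hgood a haA p hp hpN ha h1, hgood b hbA q hq hqN hb h2⟩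

end Semi

end Cfsg.Agent.H531.LemX
end

-- part: H531/RedAb
section
prune_inst 0x2000000050001000000000002000000010000002004000000040000000080041004400003060020001000c30200a0040100804090000000000000a0040200609000020c28008000001000000c800000000000000000000000000000000000000000400000
set_option linter.all false
open scoped Cfsg.Agent.FastGrp

/-!
# The abelian case of the reduction

`Bad.false_of_abelian` : a group `G` with `Bad p G` (`p` odd), in which `[G, P]` is contained in every non-trivial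
normal subgroup and which has an abelian minimal normal subgroup, does not exist.
-/

set_option autoImplicit false

namespace Cfsg.Agent.H531.Red

open Cfsg.Agent.H531.TwoPrimes Cfsg.Agent.H531.ClassIndex Cfsg.Agent.H531.Sizes Subgroup

open scoped Pointwise

universe u

variable {G : Type u} [Group G] [Finite G] {p : ℕ} [Fact p.Prime]

omit [Finite G] in
/-- A normal subgroup containing `[G, P]` and `P` itself is everything up to the normaliser. -/
theorem sup_eq_top (P : Sylow p G) (hnorm : Subgroup.normalizer ((P : Subgroup G) : Set G) ≤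
    Subgroup.centralizer ((P : Subgroup G) : Set G)) (N : Subgroup G) [hN : N.Normal] [Finite G]
    (hc : ∀ g : G, ∀ y ∈ P, g * y * g⁻¹ * y⁻¹ ∈ N) :
    Subgroup.centralizer ((P : Subgroup G) : Set G) ⊔ N = ⊤ := by
  have hM : ((P : Subgroup G) ⊔ N).Normal := by
    constructor
    intro m hm g
    rw [Subgroup.mem_sup_of_normal_right] at hm ⊢
    obtain ⟨y, hy, n, hn, rfl⟩ := hm
    refine ⟨y, hy, y⁻¹ * (g * y * g⁻¹ * y⁻¹) * y * (g * n * g⁻¹), ?_, by group⟩
    refine mul_mem ?_ (hN.conj_mem n hn g)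
    have := hN.conj_mem _ (hc g y hy) y⁻¹
    rwa [inv_inv] at this
  have hPM : (P : Subgroup G) ≤ (P : Subgroup G) ⊔ N := le_sup_left
  have h1 := Sylow.normalizer_sup_eq_top (P.subtype hPM)
  have h2 : (((P.subtype hPM : Sylow p _) : Subgroup _).map ((P : Subgroup G) ⊔ N).subtype) = (P : Subgroup G) := by
    ext x
    constructor
    · rintro ⟨y, hy, rfl⟩
      exact hy
    · intro hx
      exact ⟨⟨x, hPM hx⟩, hx, rfl⟩
  rw [h2] at h1
  rw [eq_top_iff, ← h1]
  refine sup_le (hnorm.trans le_sup_left) (sup_le ?_ le_sup_right)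
  exact (Subgroup.le_normalizer.trans hnorm).trans le_sup_left

/-- **The abelian case.** -/
theorem Bad.false_of_abelian (B : Bad p G) (P : Sylow p G) (N : Subgroup G) [hNn : N.Normal] (hN1 : N ≠ ⊥)
    (hmin : ∀ M : Subgroup G, M.Normal → M ≤ N → M = ⊥ ∨ M = N)
    (hab : ∀ x ∈ N, ∀ y ∈ N, Commute x y) (hc : ∀ g : G, ∀ y ∈ P, g * y * g⁻¹ * y⁻¹ ∈ N)
    (huniq : ∀ M : Subgroup G, M.Normal → M ≠ ⊥ → N ≤ M) : False := by
  set C : Subgroup G := Subgroup.centralizer ((P : Subgroup G) : Set G) with hC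
  have hCN : C ⊔ N = ⊤ := sup_eq_top P (B.norm_le P) N hc
  have hdec : ∀ g : G, ∃ c ∈ C, ∃ n ∈ N, c * n = g := by
    intro g
    have : g ∈ C ⊔ N := by rw [hCN]; trivial
    rwa [Subgroup.mem_sup_of_normal_right] at this
  -- `C ∩ N = 1`
  have hCN0 : C ⊓ N = ⊥ := by
    have hn : (C ⊓ N).Normal := by
      constructor
      rintro x ⟨hxC, hxN⟩ g
      obtain ⟨c, hc, n, hn, rfl⟩ := hdec g
      have h1 : c * n * x * (c * n)⁻¹ = c * x * c⁻¹ := by
        have := (hab n hn x hxN).eq
        calc c * n * x * (c * n)⁻¹ = c * (n * x) * n⁻¹ * c⁻¹ := by group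
          _ = c * (x * n) * n⁻¹ * c⁻¹ := by rw [this]
          _ = c * x * c⁻¹ := by group
      rw [h1]
      exact ⟨C.mul_mem (C.mul_mem hc hxC) (C.inv_mem hc), hNn.conj_mem x hxN c⟩
    rcases hmin _ hn inf_le_right with h | h
    · exact h
    · exfalso
      apply B.not_le_center P
      have h1 : C = ⊤ := by
        rw [eq_top_iff, ← hCN]
        exact sup_le le_rfl (inf_eq_right.1 h)
      intro y hy
      rw [Subgroup.mem_center_iff]
      intro g
      have hg : g ∈ C := by rw [h1]; trivial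
      exact (Subgroup.mem_centralizer_iff.1 hg y hy).symm
  have hCN0' : ∀ x ∈ C, x ∈ N → x = 1 := by
    intro x h1 h2
    have : x ∈ C ⊓ N := ⟨h1, h2⟩
    rwa [hCN0, Subgroup.mem_bot] at this
  -- `C` acts faithfully on `N`
  have hfaith : ∀ x ∈ C, (∀ n ∈ N, Commute x n) → x = 1 := by
    have hn : (C ⊓ Subgroup.centralizer (N : Set G)).Normal := by
      constructor
      rintro x ⟨hxC, hxN⟩ g
      obtain ⟨c, hc, n, hn, rfl⟩ := hdec g
      have h1 : c * n * x * (c * n)⁻¹ = c * x * c⁻¹ := by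
        have : n * x = x * n := Subgroup.mem_centralizer_iff.1 hxN n hn
        calc c * n * x * (c * n)⁻¹ = c * (n * x) * n⁻¹ * c⁻¹ := by group
          _ = c * (x * n) * n⁻¹ * c⁻¹ := by rw [this]
          _ = c * x * c⁻¹ := by group
      rw [h1]
      have h2 : (Subgroup.centralizer (N : Set G)).Normal := inferInstance
      exact ⟨C.mul_mem (C.mul_mem hc hxC) (C.inv_mem hc), h2.conj_mem x hxN c⟩
    have h0 : C ⊓ Subgroup.centralizer (N : Set G) = ⊥ := by
      by_contra hne
      have h1 := huniq _ hn hne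
      apply hN1
      rw [eq_bot_iff]
      intro x hx
      rw [Subgroup.mem_bot]
      exact hCN0' x (h1 hx).1 hx
    intro x hxC hx
    have : x ∈ C ⊓ Subgroup.centralizer (N : Set G) :=
      ⟨hxC, Subgroup.mem_centralizer_iff.2 fun n hn => ((hx n hn).eq).symm⟩
    rwa [h0, Subgroup.mem_bot] at this
  -- elements with class size prime to `p` are conjugate into `C` under `N`
  have hconj : ∀ z : G, ¬ p ∣ cs z → ∃ n ∈ N, n * z * n⁻¹ ∈ C := by
    intro z hz
    obtain ⟨g, hg⟩ := conj_mem_centralizer P hz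
    obtain ⟨c, hcC, n, hn, rfl⟩ := hdec g
    refine ⟨n, hn, ?_⟩
    have h1 : n * z * n⁻¹ = c⁻¹ * (c * n * z * (c * n)⁻¹) * c := by group
    rw [h1]
    exact mul_mem (mul_mem (inv_mem hcC) hg) hcC
  have hpN : ∀ n ∈ N, n ≠ 1 → p ∣ cs n := by
    intro n hn hn1
    by_contra hcon
    obtain ⟨m, hm, hmC⟩ := hconj n hcon
    apply hn1
    have h1 : m * n * m⁻¹ = 1 := hCN0' _ hmC (hNn.conj_mem n hn m)
    have h2 : n = m⁻¹ * (m * n * m⁻¹) * m := by group
    rw [h2, h1]; group
  -- an involution in `C`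
  have h2C : 2 ∣ Nat.card C := by
    by_contra hcon
    apply B.ns
    have hodd : Odd (Nat.card C) := by
      rw [← Nat.not_even_iff_odd, even_iff_two_dvd]
      exact hcon
    have h1 : Group.IsSolvable C := Cfsg.Agent.S0205.result hodd
    have h2 : Group.IsSolvable N := Group.isSolvable_of_comm fun a b => Subtype.ext (hab a a.2 b b.2).eq
    have h3 : Group.IsSolvable (G ⧸ N) := by
      apply Group.isSolvable_of_surjective (f := (QuotientGroup.mk' N).comp C.subtype)
      intro x
      obtain ⟨g, rfl⟩ := QuotientGroup.mk'_surjective N x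
      obtain ⟨c, hcC, n, hn, rfl⟩ := hdec g
      refine ⟨⟨c, hcC⟩, ?_⟩
      show QuotientGroup.mk' N c = QuotientGroup.mk' N (c * n)
      rw [map_mul, (QuotientGroup.eq_one_iff n).2 hn |> fun h => (h : QuotientGroup.mk' N n = 1), mul_one]
    exact (Group.isSolvable_iff_subgroup_quotient N).2 ⟨h2, h3⟩
  obtain ⟨⟨t, htC⟩, ht⟩ := exists_prime_orderOf_dvd_card' 2 h2C
  have ht2 : t * t = 1 := by
    have h1 : (⟨t, htC⟩ : C) ^ 2 = 1 := by rw [← ht, pow_orderOf_eq_one]
    have h2 := congrArg Subtype.val h1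
    simpa [sq] using h2
  have ht1 : t ≠ 1 := by
    rintro rfl
    have h1 : (⟨1, htC⟩ : C) = 1 := rfl
    rw [h1, orderOf_one] at ht
    omega
  have htinv : t⁻¹ = t := inv_eq_of_mul_eq_one_left ht2
  obtain ⟨m, hm, htm⟩ : ∃ m ∈ N, ¬ Commute t m := by
    by_contra hcon
    push Not at hcon
    exact ht1 (hfaith t htC hcon)
  obtain ⟨l, hl, hlN, hlpow⟩ := Lib.MinNormalNonabelian.abelian_structure N hN1 hmin hab
  by_cases hl2 : l = 2
  · -- characteristic two
    subst hl2
    have hsq : ∀ n ∈ N, n * n = 1 := fun n hn => by rw [← sq]; exact hlpow n hn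
    have htN : ∀ n ∈ N, t * n * t⁻¹ ∈ N := fun n hn => hNn.conj_mem n hn t
    -- the map `n ↦ n * (t * n⁻¹ * t⁻¹)` is not surjective
    let f : N → N := fun n => ⟨(n : G) * (t * (n : G)⁻¹ * t⁻¹), mul_mem n.2 (htN _ (inv_mem n.2))⟩
    have hfni : ¬ Function.Injective f := by
      intro hinj
      -- a fixed point
      have hfix : ∃ w ∈ N, w ≠ 1 ∧ t * w * t⁻¹ = w := by
        by_cases hw : m * (t * m * t⁻¹) = 1
        · refine ⟨m, hm, ?_, ?_⟩
          · rintro rfl
            exact htm (Commute.one_right t)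
          · have h1 : t * m * t⁻¹ = m⁻¹ := (inv_eq_of_mul_eq_one_right hw).symm
            rw [h1]
            exact inv_eq_of_mul_eq_one_left (hsq m hm)
        · refine ⟨m * (t * m * t⁻¹), mul_mem hm (htN m hm), hw, ?_⟩
          have h1 : t * (m * (t * m * t⁻¹)) * t⁻¹ = (t * m * t⁻¹) * ((t * t) * m * (t * t)⁻¹) := by group
          rw [h1, ht2]
          have h2 := (hab m hm _ (htN m hm)).eq
          rw [h2]
          simp
      obtain ⟨w, hw, hw1, hwt⟩ := hfix
      have h1 : f ⟨w, hw⟩ = f 1 := by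
        apply Subtype.ext
        show w * (t * w⁻¹ * t⁻¹) = 1 * (t * 1⁻¹ * t⁻¹)
        have h2 : t * w⁻¹ * t⁻¹ = (t * w * t⁻¹)⁻¹ := by group
        rw [h2, hwt]
        simp
      exact hw1 (congrArg Subtype.val (hinj h1))
    have hfns : ¬ Function.Surjective f := fun h => hfni (Finite.injective_iff_surjective.2 h)
    obtain ⟨⟨y, hy⟩, hyf⟩ : ∃ y : N, ∀ n : N, f n ≠ y := by
      by_contra hcon
      push Not at hcon
      exact hfns hcon
    apply B.no (y * t)
    constructor
    · by_contra hcon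
      have h2f : Fact (Nat.Prime 2) := ⟨Nat.prime_two⟩
      obtain ⟨T, hT⟩ := (not_dvd_iff (r := 2) _).1 hcon
      have hNT : N ≤ T := by
        obtain ⟨T', hT'⟩ := hlN.exists_le_sylow
        obtain ⟨g, hg⟩ := MulAction.exists_smul_eq G T' T
        intro n hn
        rw [← hg]
        show n ∈ MulAut.conj g • (T' : Subgroup G)
        rw [Subgroup.mem_pointwise_smul_iff_inv_smul_mem]
        apply hT'
        have := hNn.conj_mem n hn g⁻¹
        simpa [MulAut.smul_def, MulAut.conj_inv_apply, mul_assoc] using this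
      apply htm
      have h1 := (hT m (hNT hm)).eq
      have h2 := (hab m hm y hy).eq
      show t * m = m * t
      have h3 : y * (m * t) = y * (t * m) := by
        calc y * (m * t) = (y * m) * t := by group
          _ = (m * y) * t := by rw [h2]
          _ = m * (y * t) := by group
          _ = y * t * m := h1
          _ = y * (t * m) := by group
      exact (mul_left_cancel h3).symm
    · by_contra hcon
      obtain ⟨n, hn, hnC⟩ := hconj _ hcon
      have h1 : n * (y * t) * n⁻¹ = (n * y * (t * n⁻¹ * t⁻¹)) * t := by group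
      rw [h1] at hnC
      have h2 : n * y * (t * n⁻¹ * t⁻¹) ∈ C := by
        have := mul_mem hnC (inv_mem htC)
        rwa [mul_inv_cancel_right] at this
      have h3 := hCN0' _ h2 (mul_mem (mul_mem hn hy) (htN _ (inv_mem hn)))
      apply hyf ⟨n⁻¹, inv_mem hn⟩
      apply Subtype.ext
      show n⁻¹ * (t * n⁻¹⁻¹ * t⁻¹) = y
      have h4 : n⁻¹ * (n * y * (t * n⁻¹ * t⁻¹)) * (t * n * t⁻¹) = y := by group
      rw [h3] at h4
      rw [inv_inv]
      simpa using h4
  · -- odd characteristic
    have hlodd : Odd l := hl.odd_of_ne_two hl2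
    set n : G := m * (t * m⁻¹ * t⁻¹) with hn
    have hnN : n ∈ N := mul_mem hm (hNn.conj_mem _ (inv_mem hm) t)
    have hn1 : n ≠ 1 := by
      intro h
      apply htm
      have h1 : m = t * m * t⁻¹ := by
        have : m = n * (t * m * t⁻¹) := by rw [hn]; group
        rw [h, one_mul] at this
        exact this
      show t * m = m * t
      calc t * m = (t * m * t⁻¹) * t := by group
        _ = m * t := by rw [← h1]
    have hinv : t * n * t⁻¹ = n⁻¹ := by
      have h1 : t * n * t⁻¹ = (t * m * t⁻¹) * ((t * t) * m⁻¹ * (t * t)⁻¹) := by rw [hn]; group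
      rw [h1, ht2, hn]
      simp [mul_assoc, htinv]
    have hne : n⁻¹ ≠ n := by
      intro h
      apply hn1
      have h1 : n * n = 1 := by
        nth_rewrite 1 [← h]
        exact inv_mul_cancel n
      have h2 := hlpow n hnN
      obtain ⟨k, hk⟩ := hlodd
      rw [hk, pow_succ, pow_mul, sq, h1, one_pow, one_mul] at h2
      exact h2
    exact B.no n ⟨two_dvd_of_inverts hinv hne, hpN n hnN hn1⟩

end Cfsg.Agent.H531.Red
end
end
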